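import Mathlib

/-!
# S3938, `PΩ⁺₈(5)`: relations between 3-cycles in `A₁₀` (helper9)

`pair`: two elements of order 3 which commute with elements of order 7;
`a10_rel`: the relations used against the overgroups `A₁₀`.
-/

set_option autoImplicit false
set_option linter.unusedSectionVars false
set_option linter.unusedSimpArgs false

namespace Cfsg.Agent.H9.O5

open Equiv Equiv.Perm

section abs

variable {α : Type*} [Fintype α] [DecidableEq α]

/-- rotation by a cycle of length three, given by three points -/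
def c3 (a b c : α) : Perm α := swap a b * swap b c

theorem emb_c3 {β : Type*} [Fintype β] [DecidableEq β] (f : β ↪ α) (a b c : β) :
    viaEmbeddingHom f (c3 a b c) = c3 (f a) (f b) (f c) := by
  have key : ∀ a b : β, viaEmbeddingHom f (swap a b) = swap (f a) (f b) := by
    intro a b
    ext x
    rw [viaEmbeddingHom_apply]
    by_cases hx : x ∈ Set.range f
    · obtain ⟨y, rfl⟩ := hx
      rw [viaEmbedding_apply]
      rw [swap_apply_def, swap_apply_def]
      split_ifs with h1 h2 h3 h4 h5 h6 h7 <;> simp_all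
    · rw [viaEmbedding_apply_of_notMem _ _ _ hx, swap_apply_of_ne_of_ne]
      · rintro rfl; exact hx ⟨a, rfl⟩
      · rintro rfl; exact hx ⟨b, rfl⟩
  rw [c3, c3, map_mul, key, key]

/-- the embedding of `Fin 4` given by four points -/
theorem exists_emb4 {a b c d : α} (h : [a, b, c, d].Nodup) :
    ∃ f : Fin 4 ↪ α, f 0 = a ∧ f 1 = b ∧ f 2 = c ∧ f 3 = d :=
  ⟨⟨fun i => [a, b, c, d].get i, List.nodup_iff_injective_get.1 h⟩, rfl, rfl, rfl, rfl⟩

theorem exists_emb5 {a b c d e : α} (h : [a, b, c, d, e].Nodup) :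
    ∃ f : Fin 5 ↪ α, f 0 = a ∧ f 1 = b ∧ f 2 = c ∧ f 3 = d ∧ f 4 = e :=
  ⟨⟨fun i => [a, b, c, d, e].get i, List.nodup_iff_injective_get.1 h⟩, rfl, rfl, rfl, rfl, rfl⟩

theorem exists_emb3 {a b c : α} (h : [a, b, c].Nodup) :
    ∃ f : Fin 3 ↪ α, f 0 = a ∧ f 1 = b ∧ f 2 = c :=
  ⟨⟨fun i => [a, b, c].get i, List.nodup_iff_injective_get.1 h⟩, rfl, rfl, rfl⟩

theorem rel_two {a b c d : α} (h : [a, b, c, d].Nodup) : (c3 a b c * c3 a b d) ^ 2 = 1 := by
  obtain ⟨f, rfl, rfl, rfl, rfl⟩ := exists_emb4 h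
  rw [← emb_c3, ← emb_c3, ← map_mul, ← map_pow,
    show (c3 (0 : Fin 4) 1 2 * c3 0 1 3) ^ 2 = 1 by decide, map_one]

theorem rel_five {a b c d e : α} (h : [a, b, c, d, e].Nodup) : (c3 a b c * c3 a d e) ^ 5 = 1 := by
  obtain ⟨f, rfl, rfl, rfl, rfl, rfl⟩ := exists_emb5 h
  rw [← emb_c3, ← emb_c3, ← map_mul, ← map_pow,
    show (c3 (0 : Fin 5) 1 2 * c3 0 3 4) ^ 5 = 1 by decide, map_one]

theorem c3_rot (a b c : α) (hab : a ≠ b) (hbc : b ≠ c) (hac : a ≠ c) : c3 b c a = c3 a b c := by
  obtain ⟨f, h1, h2, h3⟩ := exists_emb3 (a := a) (b := b) (c := c) (by simp [hab, hbc, hac])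
  rw [← h1, ← h2, ← h3, ← emb_c3, ← emb_c3, show c3 (1 : Fin 3) 2 0 = c3 0 1 2 by decide]

theorem c3_inv (a b c : α) (hab : a ≠ b) (hbc : b ≠ c) (hac : a ≠ c) : (c3 a b c)⁻¹ = c3 b a c := by
  obtain ⟨f, h1, h2, h3⟩ := exists_emb3 (a := a) (b := b) (c := c) (by simp [hab, hbc, hac])
  rw [← h1, ← h2, ← h3, ← emb_c3, ← emb_c3, ← map_inv, show (c3 (0 : Fin 3) 1 2)⁻¹ = c3 1 0 2 by decide]

theorem c3_apply_left (a b c : α) (hab : a ≠ b) (hac : a ≠ c) : c3 a b c a = b := by
  rw [c3, Perm.mul_apply, swap_apply_of_ne_of_ne hab hac, swap_apply_left]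

/-- conjugation -/
theorem conj_c3 (g : Perm α) (a b c : α) : g * c3 a b c * g⁻¹ = c3 (g a) (g b) (g c) := by
  rw [c3, c3, Equiv.swap_apply_apply, Equiv.swap_apply_apply]
  group

/-- a three-cycle written from a point of its support -/
theorem eq_c3 {g : Perm α} (hg : g.IsThreeCycle) {a : α} (ha : g a ≠ a) : g = c3 a (g a) (g (g a)) := by
  rw [c3]
  exact hg.eq_swap_mul_swap_iff_mem_support.2 (mem_support.2 ha)

theorem supp_c3 {a b c : α} (hab : a ≠ b) (hbc : b ≠ c) (hac : a ≠ c) : (c3 a b c).support = {a, b, c} := by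
  have h3 : (c3 a b c).IsThreeCycle := by
    have := isThreeCycle_swap_mul_swap_same (a := b) (b := a) (c := c) hab.symm hbc hac
    rwa [swap_comm b a] at this
  have hcard := h3.card_support
  symm
  apply Finset.eq_of_subset_of_card_le
  · intro x hx
    rw [mem_support]
    simp only [Finset.mem_insert, Finset.mem_singleton] at hx
    rcases hx with rfl | rfl | rfl
    · rw [c3_apply_left _ _ _ hab hac]; exact hab.symm
    · rw [← c3_rot _ _ _ hab hbc hac, c3_apply_left _ _ _ hbc hab.symm]; exact hbc.symm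
    · rw [← c3_rot _ _ _ hab hbc hac, ← c3_rot _ _ _ hbc hac.symm hab.symm, c3_apply_left _ _ _ hac.symm hbc.symm]
      exact hac
  · rw [hcard, Finset.card_insert_of_notMem (by simp [hab, hac]), Finset.card_insert_of_notMem (by simp [hbc]),
      Finset.card_singleton]

/-- the points of a three-cycle -/
theorem three_pts {g : Perm α} (hg : g.IsThreeCycle) {a : α} (ha : g a ≠ a) :
    g = c3 a (g a) (g (g a)) ∧ a ≠ g a ∧ g a ≠ g (g a) ∧ a ≠ g (g a) := by
  have h1 := eq_c3 hg ha
  have h2 : g a ≠ g (g a) := fun h => ha (g.injective h).symm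
  refine ⟨h1, ha.symm, h2, fun h => ?_⟩
  have h3 : g ^ 3 = 1 := by rw [← hg.orderOf]; exact pow_orderOf_eq_one g
  have h4 : (g ^ 3) a = a := by rw [h3]; rfl
  have h5 : g (g (g a)) = a := h4
  rw [← h] at h5
  exact ha h5

theorem c3_comm_self (a b c : α) : Commute (c3 a b c) (c3 a b c) := Commute.refl _

theorem sq_conj {G : Type*} [Group G] {a b : G} (h : (a * b) ^ 2 = 1) : (b * a) ^ 2 = 1 := by
  have : (b * a) ^ 2 = a⁻¹ * (a * b) ^ 2 * a := by rw [pow_two, pow_two]; group
  rw [this, h, mul_one, inv_mul_cancel]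

theorem sq_inv {G : Type*} [Group G] {a b : G} (h : (a⁻¹ * b) ^ 2 = 1) : (a * b⁻¹) ^ 2 = 1 := by
  have h1 := sq_conj h
  have h2 : (a * b⁻¹) = (b * a⁻¹)⁻¹ := by rw [mul_inv_rev, inv_inv]
  rw [h2, inv_pow, h1, inv_one]

theorem sq_inv' {G : Type*} [Group G] {a b : G} (h : (a⁻¹ * b⁻¹) ^ 2 = 1) : (a * b) ^ 2 = 1 := by
  have h2 : (a⁻¹ * b⁻¹) = (b * a)⁻¹ := by rw [mul_inv_rev]
  rw [h2, inv_pow, inv_eq_one] at h
  exact sq_conj h

/-- two three-cycles with a common point -/
theorem pair_pts {g h : Perm α} (hg : g.IsThreeCycle) (hh : h.IsThreeCycle) {a : α} (ha : g a ≠ a) (hb : h a ≠ a) :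
    g * h = h * g ∨ (g * h) ^ 5 = 1 ∨ (g * h) ^ 2 = 1 ∨ (g * h⁻¹) ^ 2 = 1 := by
  obtain ⟨e1, n1, n2, n3⟩ := three_pts hg ha
  obtain ⟨e2, m1, m2, m3⟩ := three_pts hh hb
  generalize hb : g a = b at e1 n1 n2 n3
  generalize hc : g b = c at e1 n1 n2 n3
  generalize hd : h a = d at e2 m1 m2 m3
  generalize he : h d = e at e2 m1 m2 m3
  clear hb hc hd he
  rw [e1, e2]
  by_cases c1 : b = d
  · subst c1
    by_cases c2 : c = e
    · subst c2
      exact Or.inl rfl
    · refine Or.inr (Or.inr (Or.inl (rel_two ?_)))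
      simp [n1, n2, n3, m1, m2, m3, c2]
  by_cases c3' : b = e
  · subst c3'
    by_cases c4 : c = d
    · subst c4
      left
      rw [← c3_rot a c b n3 n2.symm n1, ← c3_rot c b a n2.symm n1.symm n3.symm, ← c3_inv a b c n1 n2 n3]
      rw [mul_inv_cancel, inv_mul_cancel]
    · refine Or.inr (Or.inr (Or.inr ?_))
      have e3 : (c3 a d b)⁻¹ = c3 a b d := by
        rw [c3_inv a d b m1 m2 m3, ← c3_rot a b d n1 m2.symm m1, ← c3_rot b d a m2.symm m1.symm n1.symm]
      rw [e3]
      refine rel_two ?_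
      simp [n1, n2, n3, m1, m2.symm, m3, c4]
  by_cases c4 : c = d
  · subst c4
    refine Or.inr (Or.inr (Or.inr (sq_inv ?_)))
    have e3 : (c3 a b c)⁻¹ = c3 a c b := by
      rw [c3_inv a b c n1 n2 n3, ← c3_rot a c b n3 n2.symm n1, ← c3_rot c b a n2.symm n1.symm n3.symm]
    rw [e3]
    refine rel_two ?_
    simp [n1, n2.symm, n3, m1, m2, m3, c3']
  by_cases c5 : c = e
  · subst c5
    refine Or.inr (Or.inr (Or.inl (sq_inv' ?_)))
    have e3 : (c3 a b c)⁻¹ = c3 a c b := by
      rw [c3_inv a b c n1 n2 n3, ← c3_rot a c b n3 n2.symm n1, ← c3_rot c b a n2.symm n1.symm n3.symm]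
    have e4 : (c3 a d c)⁻¹ = c3 a c d := by
      rw [c3_inv a d c m1 m2 m3, ← c3_rot a c d n3 m2.symm m1, ← c3_rot c d a m2.symm m1.symm n3.symm]
    rw [e3, e4]
    refine rel_two ?_
    simp [n1, n2.symm, n3, m1, m2.symm, m3, c1]
  refine Or.inr (Or.inl (rel_five ?_))
  simp [n1, n2, n3, m1, m2, m3, c1, c3', c4, c5]

/-- **two three-cycles** -/
theorem pair3 {g h : Perm α} (hg : g.IsThreeCycle) (hh : h.IsThreeCycle) :
    g * h = h * g ∨ (g * h) ^ 5 = 1 ∨ (g * h) ^ 2 = 1 ∨ (g * h⁻¹) ^ 2 = 1 := by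
  by_cases hd : Perm.Disjoint g h
  · exact Or.inl hd.commute.eq
  · rw [Perm.Disjoint] at hd
    push Not at hd
    obtain ⟨a, h1, h2⟩ := hd
    exact pair_pts hg hh h1 h2

end abs

section ten

theorem seven_cycle {x : Perm (Fin 10)} (hx : orderOf x = 7) : x.IsCycle :=
  isCycle_of_prime_order' (by rw [hx]; norm_num) (by rw [hx, Fintype.card_fin]; norm_num)

theorem seven_card {x : Perm (Fin 10)} (hx : orderOf x = 7) : x.support.card = 7 := by
  rw [← (seven_cycle hx).orderOf, hx]

/-- an element which commutes with a cycle is a power of it on its support -/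
theorem pow_on {x g : Perm (Fin 10)} (hx : x.IsCycle) (h : g * x = x * g) :
    ∃ k : ℕ, ∀ p ∈ x.support, g p = (x ^ k) p := by
  obtain ⟨hc, h2⟩ := hx.commute_iff.1 (show Commute g x from h)
  obtain ⟨k, hk⟩ := (mem_powers_iff_mem_zpowers.2 h2 : _ ∈ Submonoid.powers x)
  refine ⟨k, fun p hp => ?_⟩
  have hk' : x ^ k = _ := hk
  rw [hk', Perm.ofSubtype_apply_of_mem _ hp]
  rfl

theorem apply_mem {x g : Perm (Fin 10)} (h : g * x = x * g) (p : Fin 10) : g p ∈ x.support ↔ p ∈ x.support := by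
  rw [Perm.mem_support, Perm.mem_support]
  have e : x (g p) = g (x p) := (congrArg (fun s : Perm (Fin 10) => s p) h).symm
  rw [e, ne_eq, ne_eq, g.injective.eq_iff]

theorem pow_apply_eq {x g : Perm (Fin 10)} (h : g * x = x * g) {k : ℕ} (hk : ∀ p ∈ x.support, g p = (x ^ k) p)
    (n : ℕ) {p : Fin 10} (hp : p ∈ x.support) : (g ^ n) p = (x ^ (k * n)) p := by
  induction n with
  | zero => simp
  | succ n ih =>
    have h1 : (g ^ n) p ∈ x.support := by
      have : g ^ n * x = x * g ^ n := (show Commute g x from h).pow_left n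
      exact (apply_mem this p).2 hp
    rw [pow_succ', Perm.mul_apply, hk _ h1, ih, ← Perm.mul_apply, ← pow_add]
    congr 2
    ring

/-- an element of order three which commutes with an element of order seven is a three-cycle disjoint from it -/
theorem three_type {x g : Perm (Fin 10)} (hx : orderOf x = 7) (hg : orderOf g = 3) (h : g * x = x * g) :
    g.IsThreeCycle ∧ Perm.Disjoint g x := by
  have hd : Perm.Disjoint g x := by
    intro p
    by_cases hp : p ∈ x.support
    · left
      obtain ⟨k, hk⟩ := pow_on (seven_cycle hx) h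
      have h1 := pow_apply_eq h hk 3 hp
      have h2 : g ^ 3 = 1 := by rw [← hg]; exact pow_orderOf_eq_one g
      rw [h2] at h1
      have h3 : x ^ (k * 3) = 1 := by
        apply (seven_cycle hx).pow_eq_one_iff.2
        exact ⟨p, Perm.mem_support.1 hp, h1.symm⟩
      have h4 : 7 ∣ k * 3 := by
        have := orderOf_dvd_iff_pow_eq_one.2 h3
        rwa [hx] at this
      have h5 : 7 ∣ k := by omega
      have h6 : x ^ k = 1 := by
        apply orderOf_dvd_iff_pow_eq_one.1
        rwa [hx]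
      rw [hk p hp, h6]
      rfl
    · right
      rwa [Perm.notMem_support] at hp
  refine ⟨?_, hd⟩
  have h1 : g.support.card + x.support.card ≤ 10 := by
    rw [← Finset.card_union_of_disjoint (Perm.disjoint_iff_disjoint_support.1 hd)]
    have := Finset.card_le_univ (g.support ∪ x.support)
    rwa [Fintype.card_fin] at this
  rw [seven_card hx] at h1
  have h2 : g ≠ 1 := by
    rintro rfl
    rw [orderOf_one] at hg
    omega
  have h3 : g.support.card ≠ 2 := by
    intro h4
    have h5 : g.IsSwap := Perm.card_support_eq_two.1 h4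
    rw [h5.orderOf] at hg
    omega
  have h4 := Perm.one_lt_card_support_of_ne_one h2
  exact card_support_eq_three_iff.1 (by omega)

/-- no element of order nine commutes with an element of order seven -/
theorem pow_42 {x g : Perm (Fin 10)} (hx : orderOf x = 7) (h : g * x = x * g) : g ^ 42 = 1 := by
  ext p : 1
  rw [Perm.one_apply]
  by_cases hp : p ∈ x.support
  · obtain ⟨k, hk⟩ := pow_on (seven_cycle hx) h
    rw [pow_apply_eq h hk 42 hp]
    have h3 : x ^ (k * 42) = 1 := by
      apply orderOf_dvd_iff_pow_eq_one.1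
      rw [hx]
      exact ⟨k * 6, by ring⟩
    rw [h3]
    rfl
  · have hq : ∀ q : Fin 10, g q ∉ x.support ↔ q ∉ x.support := fun q => (apply_mem h q).not
    have h1 : (Perm.subtypePerm g (p := fun q => q ∉ x.support) hq) ^ 6 = 1 := by
      have h2 : Fintype.card (Perm {q : Fin 10 // q ∉ x.support}) = 6 := by
        rw [Fintype.card_perm]
        have : Fintype.card {q : Fin 10 // q ∉ x.support} = 3 := by
          rw [Fintype.card_subtype_compl, Fintype.card_fin]
          simp only [Fintype.card_coe]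
          rw [seven_card hx]
        rw [this]
        rfl
      rw [← h2]
      exact pow_card_eq_one
    have h2 : (g ^ 6) p = p := by
      have := congrArg (fun s : Perm {q : Fin 10 // q ∉ x.support} => (s ⟨p, hp⟩ : Fin 10)) h1
      simpa [Perm.subtypePerm_pow] using this
    have h3 : ∀ n : ℕ, ((g ^ 6) ^ n) p = p := by
      intro n
      induction n with
      | zero => rfl
      | succ n ih => rw [pow_succ, Perm.mul_apply, h2, ih]
    have h4 : g ^ 42 = (g ^ 6) ^ 7 := by rw [← pow_mul]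
    rw [h4, h3]

theorem nodup5 {a b c d e : Fin 10} (n1 : a ≠ b) (n2 : a ≠ c) (n3 : a ≠ d) (n4 : a ≠ e) (n5 : b ≠ c) (n6 : b ≠ d)
    (n7 : b ≠ e) (n8 : c ≠ d) (n9 : c ≠ e) (n10 : d ≠ e) : [a, b, c, d, e].Nodup := by
  simp [n1, n2, n3, n4, n5, n6, n7, n8, n9, n10]

theorem nodup4 {a b c d : Fin 10} (n1 : a ≠ b) (n2 : a ≠ c) (n3 : a ≠ d) (n5 : b ≠ c) (n6 : b ≠ d)
    (n8 : c ≠ d) : [a, b, c, d].Nodup := by
  simp [n1, n2, n3, n5, n6, n8]

/-- powers of a cycle of length seven move points -/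
theorem pow_ne {x : Perm (Fin 10)} (hx : orderOf x = 7) {p : Fin 10} (hp : x p ≠ p) {n : ℕ} (hn : ¬ 7 ∣ n) :
    (x ^ n) p ≠ p := by
  intro h
  apply hn
  rw [← hx]
  apply orderOf_dvd_iff_pow_eq_one.2
  exact (seven_cycle hx).pow_eq_one_iff.2 ⟨p, hp, h⟩

/-- **the relations** -/
theorem rel3 {x g h : Perm (Fin 10)} (hx : orderOf x = 7) (hg : orderOf g = 3) (hgx : g * x = x * g)
    (hh : h.IsThreeCycle) : g * h = h * g ∨ (h * (x * h * x⁻¹)) ^ 2 = 1 ∨ (h * (x * h * x⁻¹)) ^ 5 = 1 ∨
      (h * (x ^ 2 * h * (x ^ 2)⁻¹)) ^ 5 = 1 := by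
  obtain ⟨g3, hd⟩ := three_type hx hg hgx
  by_cases hc : Perm.Disjoint g h
  · exact Or.inl hc.commute.eq
  rw [Perm.Disjoint] at hc
  push Not at hc
  obtain ⟨a, ga, ha⟩ := hc
  have xa : x a = a := (hd a).resolve_left ga
  obtain ⟨e1, n1, n2, n3⟩ := three_pts hh ha
  generalize hb' : h a = b at e1 n1 n2 n3
  generalize hc' : h b = c at e1 n1 n2 n3
  clear hb' hc' ha
  -- points outside the support of `x`
  have key : ∀ {p : Fin 10}, x p = p → p = a ∨ p = g a ∨ p = g (g a) := by
    intro p hp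
    have h1 : g p ≠ p := by
      intro h2
      have h3 : g.support ∪ x.support = Finset.univ := by
        apply Finset.eq_univ_of_card
        rw [Finset.card_union_of_disjoint (Perm.disjoint_iff_disjoint_support.1 hd), seven_card hx, g3.card_support,
          Fintype.card_fin]
      have h4 := Finset.mem_univ p
      rw [← h3, Finset.mem_union, Perm.mem_support, Perm.mem_support] at h4
      rcases h4 with h4 | h4
      · exact h4 h2
      · exact h4 hp
    have h2 : g.support = {a, g a, g (g a)} := by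
      obtain ⟨-, m1, m2, m3⟩ := three_pts g3 ga
      symm
      apply Finset.eq_of_subset_of_card_le
      · intro q hq
        rw [Perm.mem_support]
        simp only [Finset.mem_insert, Finset.mem_singleton] at hq
        rcases hq with rfl | rfl | rfl
        · exact ga
        · exact fun h3 => m2 h3.symm
        · exact fun h3 => m2 (g.injective h3).symm
      · rw [g3.card_support, Finset.card_insert_of_notMem (by simp [m1, m3]), Finset.card_insert_of_notMem
          (by simp [m2]), Finset.card_singleton]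
    have h3 := Perm.mem_support.2 h1
    rw [h2] at h3
    simpa using h3
  have comm_of : ∀ {b c : Fin 10}, a ≠ b → b ≠ c → a ≠ c → x b = b → x c = c → g * c3 a b c = c3 a b c * g := by
    intro b c n1 n2 n3 xb xc
    obtain ⟨e2, m1, m2, m3⟩ := three_pts g3 ga
    rcases key xb with h1 | h1 | h1
    · exact absurd h1.symm n1
    · rcases key xc with h2 | h2 | h2
      · exact absurd h2.symm n3
      · exact absurd (h1.trans h2.symm) n2
      · rw [h2, h1, ← e2]
    · rcases key xc with h2 | h2 | h2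
      · exact absurd h2.symm n3
      · have e3 : c3 a b c = g⁻¹ := by
          rw [h1, h2]
          conv_rhs => rw [e2]
          rw [c3_inv _ _ _ m1 m2 m3, ← c3_rot a _ _ m3 m2.symm m1, ← c3_rot _ _ a m2.symm m1.symm m3.symm]
        rw [e3, mul_inv_cancel, inv_mul_cancel]
      · exact absurd (h1.trans h2.symm) n2
  rw [e1]
  have cj : x * c3 a b c * x⁻¹ = c3 a (x b) (x c) := by rw [conj_c3, xa]
  have x2a : (x ^ 2) a = a := by rw [pow_two, Perm.mul_apply, xa, xa]
  have cj2 : x ^ 2 * c3 a b c * (x ^ 2)⁻¹ = c3 a ((x ^ 2) b) ((x ^ 2) c) := by rw [conj_c3, x2a]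
  rw [cj, cj2]
  by_cases xb : x b = b
  · by_cases xc : x c = c
    · exact Or.inl (comm_of n1 n2 n3 xb xc)
    · refine Or.inr (Or.inl ?_)
      rw [xb]
      refine rel_two (nodup4 n1 n3 ?_ n2 ?_ (Ne.symm xc))
      · intro h1; rw [← xa] at h1; exact n3 (x.injective h1)
      · intro h1; rw [← xb] at h1; exact n2 (x.injective h1)
  by_cases xc : x c = c
  · refine Or.inr (Or.inl ?_)
    rw [xc]
    have e3 : c3 a (x b) c = c3 c a (x b) := by
      have k1 : a ≠ x b := by intro h1; rw [← xa] at h1; exact n1 (x.injective h1)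
      have k2 : x b ≠ c := by intro h1; rw [← xc] at h1; exact n2 (x.injective h1)
      rw [← c3_rot a (x b) c k1 k2 n3, ← c3_rot (x b) c a k2 n3.symm k1.symm]
    have e4 : c3 a b c = c3 c a b := by
      rw [← c3_rot a b c n1 n2 n3, ← c3_rot b c a n2 n3.symm n1.symm]
    rw [e3, e4]
    refine rel_two (nodup4 n3.symm n2.symm ?_ n1 ?_ (Ne.symm xb))
    · intro h1; rw [← xc] at h1; exact n2.symm (x.injective h1)
    · intro h1; rw [← xa] at h1; exact n1 (x.injective h1)
  -- `b`, `c` both in the support of `x`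
  have ab : a ≠ x b := by intro h1; rw [← xa] at h1; exact n1 (x.injective h1)
  have ac : a ≠ x c := by intro h1; rw [← xa] at h1; exact n3 (x.injective h1)
  have ab2 : a ≠ (x ^ 2) b := by intro h1; rw [← x2a] at h1; exact n1 ((x ^ 2).injective h1)
  have ac2 : a ≠ (x ^ 2) c := by intro h1; rw [← x2a] at h1; exact n3 ((x ^ 2).injective h1)
  have bc2 : (x ^ 2) b ≠ (x ^ 2) c := fun h1 => n2 ((x ^ 2).injective h1)
  have bb2 : b ≠ (x ^ 2) b := (pow_ne hx xb (by norm_num)).symm
  have cc2 : c ≠ (x ^ 2) c := (pow_ne hx xc (by norm_num)).symm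
  have bb3 : (x ^ 3) b ≠ b := pow_ne hx xb (by norm_num)
  have cc3 : (x ^ 3) c ≠ c := pow_ne hx xc (by norm_num)
  by_cases k1 : c = x b
  · refine Or.inr (Or.inr (Or.inr (rel_five (nodup5 n1 n3 ab2 ac2 n2 bb2 ?_ ?_ cc2 bc2))))
    · rw [k1]
      intro h1
      exact bb3 h1.symm
    · rw [k1]
      intro h1
      have h2 : b = x b := x.injective h1
      exact xb h2.symm
  by_cases k2 : b = x c
  · refine Or.inr (Or.inr (Or.inr (rel_five (nodup5 n1 n3 ab2 ac2 n2 bb2 ?_ ?_ cc2 bc2))))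
    · rw [k2]
      intro h1
      have h2 : c = x c := x.injective h1
      exact xc h2.symm
    · rw [k2]
      intro h1
      exact cc3 h1.symm
  refine Or.inr (Or.inr (Or.inl (rel_five (nodup5 n1 n3 ab ac n2 (Ne.symm xb) k2 k1 (Ne.symm xc) ?_))))
  exact fun h1 => n2 (x.injective h1)

end ten

end Cfsg.Agent.H9.O5
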