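import Cfsg.Agent.StandardComponent.AltAut
import Cfsg.Agent.H9.O5.Perm

/-!
# S3938, `PΩ⁺₈(5)`: groups between `A₁₀` and `S₁₀` (helper9)
-/

set_option autoImplicit false

namespace Cfsg.Agent.H9.O5

open Equiv Equiv.Perm

/-- groups between `A₁₀` and `S₁₀` -/
def T10 (R : Type*) [Group R] : Prop :=
  ∃ Ψ : R →* Perm (Fin 10), Function.Injective Ψ ∧ alternatingGroup (Fin 10) ≤ Ψ.range

theorem t10_of {R : Type*} [Group R] (S : Subgroup R) [S.Normal] (hC : Subgroup.centralizer (S : Set R) = ⊥)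
    (e : S ≃* alternatingGroup (Fin 10)) : T10 R := by
  obtain ⟨ψ, hψ⟩ := StandardComponent.AltAut.exists_autHom 10 (by norm_num)
  let c : R →* MulAut (alternatingGroup (Fin 10)) := (MulAut.congr e).toMonoidHom.comp (MulAut.conjNormal : R →* MulAut S)
  have hc : ∀ (r : R) (y : alternatingGroup (Fin 10)), c r y = e (MulAut.conjNormal r (e.symm y)) := fun r y => rfl
  refine ⟨ψ.comp c, ?_, ?_⟩
  · rw [injective_iff_map_eq_one]
    intro r hr
    have h1 : ψ (c r) = 1 := hr
    have h2 : r ∈ Subgroup.centralizer (S : Set R) := by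
      rw [Subgroup.mem_centralizer_iff]
      intro s hs
      have h3 : c r (e ⟨s, hs⟩) = e ⟨s, hs⟩ := by
        apply Subtype.ext
        rw [hψ, h1, one_mul, inv_one, mul_one]
      rw [hc, e.symm_apply_apply] at h3
      have h4 := congrArg (fun z : S => (z : R)) (e.injective h3)
      simp only [MulAut.conjNormal_apply] at h4
      rw [mul_inv_eq_iff_eq_mul] at h4
      exact h4.symm
    rw [hC] at h2
    exact Subgroup.mem_bot.1 h2
  · intro σ hσ
    refine ⟨((e.symm ⟨σ, hσ⟩ : S) : R), ?_⟩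
    apply StandardComponent.AltAut.conj_unique (m := 8) (by norm_num)
    intro y
    change ψ (c _) * (y : Perm (Fin 10)) * (ψ (c _))⁻¹ = _
    rw [← hψ, hc]
    have h1 : (MulAut.conjNormal ((e.symm ⟨σ, hσ⟩ : S) : R) (e.symm y) : S) =
        e.symm ⟨σ, hσ⟩ * e.symm y * (e.symm ⟨σ, hσ⟩)⁻¹ := by
      apply Subtype.ext
      simp only [MulAut.conjNormal_apply, Subgroup.coe_mul, Subgroup.coe_inv]
    rw [h1, map_mul, map_mul, map_inv, e.apply_symm_apply, e.apply_symm_apply]
    rfl

section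

variable {R : Type*} [Group R]

theorem T10.congr {R' : Type*} [Group R'] (e : R ≃* R') (h : T10 R) : T10 R' := by
  obtain ⟨Ψ, h1, h2⟩ := h
  refine ⟨Ψ.comp e.symm.toMonoidHom, h1.comp e.symm.injective, fun σ hσ => ?_⟩
  obtain ⟨r, rfl⟩ := h2 hσ
  exact ⟨e r, by change Ψ (e.symm (e r)) = Ψ r; rw [e.symm_apply_apply]⟩

/-- elements of order three which commute with elements of order seven are conjugate -/
theorem T10.conj3 (h : T10 R) {x x' t t' : R} (hx : orderOf x = 7) (ht : orderOf t = 3) (hxt : t * x = x * t)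
    (hx' : orderOf x' = 7) (ht' : orderOf t' = 3) (hxt' : t' * x' = x' * t') : ∃ r : R, r * t * r⁻¹ = t' := by
  obtain ⟨Ψ, h1, h2⟩ := h
  have g1 := (three_type (x := Ψ x) (g := Ψ t) (by rw [orderOf_injective Ψ h1, hx]) (by rw [orderOf_injective Ψ h1, ht])
    (by rw [← map_mul, hxt, map_mul])).1
  have g2 := (three_type (x := Ψ x') (g := Ψ t') (by rw [orderOf_injective Ψ h1, hx'])
    (by rw [orderOf_injective Ψ h1, ht']) (by rw [← map_mul, hxt', map_mul])).1
  have g3 := alternatingGroup.isThreeCycle_isConj (by rw [Nat.card_eq_fintype_card, Fintype.card_fin]; norm_num) (σ := ⟨Ψ t, g1.mem_alternatingGroup⟩)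
    (τ := ⟨Ψ t', g2.mem_alternatingGroup⟩) g1 g2
  obtain ⟨c, hc⟩ := isConj_iff.1 g3
  obtain ⟨r, hr⟩ := h2 c.2
  refine ⟨r, h1 ?_⟩
  rw [map_mul, map_mul, map_inv, hr]
  exact congrArg Subtype.val hc

/-- two elements of order three which commute with elements of order seven -/
theorem T10.pair (h : T10 R) {x x' t t' : R} (hx : orderOf x = 7) (ht : orderOf t = 3) (hxt : t * x = x * t)
    (hx' : orderOf x' = 7) (ht' : orderOf t' = 3) (hxt' : t' * x' = x' * t') :
    t * t' = t' * t ∨ (t * t') ^ 5 = 1 ∨ (t * t') ^ 2 = 1 ∨ (t * t'⁻¹) ^ 2 = 1 := by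
  obtain ⟨Ψ, h1, -⟩ := h
  have g1 := (three_type (x := Ψ x) (g := Ψ t) (by rw [orderOf_injective Ψ h1, hx]) (by rw [orderOf_injective Ψ h1, ht])
    (by rw [← map_mul, hxt, map_mul])).1
  have g2 := (three_type (x := Ψ x') (g := Ψ t') (by rw [orderOf_injective Ψ h1, hx'])
    (by rw [orderOf_injective Ψ h1, ht']) (by rw [← map_mul, hxt', map_mul])).1
  rcases pair3 g1 g2 with h3 | h3 | h3 | h3
  · left; apply h1; rw [map_mul, map_mul]; exact h3
  · right; left; apply h1; rw [map_pow, map_mul, map_one]; exact h3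
  · right; right; left; apply h1; rw [map_pow, map_mul, map_one]; exact h3
  · right; right; right; apply h1; rw [map_pow, map_mul, map_inv, map_one]; exact h3

/-- the relations between `t'` and its conjugates by `x` -/
theorem T10.rel (h : T10 R) {x x' t t' : R} (hx : orderOf x = 7) (ht : orderOf t = 3) (hxt : t * x = x * t)
    (hx' : orderOf x' = 7) (ht' : orderOf t' = 3) (hxt' : t' * x' = x' * t') :
    t * t' = t' * t ∨ (t' * (x * t' * x⁻¹)) ^ 2 = 1 ∨ (t' * (x * t' * x⁻¹)) ^ 5 = 1 ∨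
      (t' * (x ^ 2 * t' * (x ^ 2)⁻¹)) ^ 5 = 1 := by
  obtain ⟨Ψ, h1, -⟩ := h
  have g2 := (three_type (x := Ψ x') (g := Ψ t') (by rw [orderOf_injective Ψ h1, hx'])
    (by rw [orderOf_injective Ψ h1, ht']) (by rw [← map_mul, hxt', map_mul])).1
  rcases rel3 (x := Ψ x) (g := Ψ t) (by rw [orderOf_injective Ψ h1, hx]) (by rw [orderOf_injective Ψ h1, ht])
    (by rw [← map_mul, hxt, map_mul]) g2 with h3 | h3 | h3 | h3
  · left; apply h1; rw [map_mul, map_mul]; exact h3
  · right; left; apply h1; simp only [map_pow, map_mul, map_inv, map_one]; exact h3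
  · right; right; left; apply h1; simp only [map_pow, map_mul, map_inv, map_one]; exact h3
  · right; right; right; apply h1; simp only [map_pow, map_mul, map_inv, map_one]; exact h3

/-- no element of order nine commutes with an element of order seven -/
theorem T10.pow (h : T10 R) {x y : R} (hx : orderOf x = 7) (hxy : y * x = x * y) : y ^ 42 = 1 := by
  obtain ⟨Ψ, h1, -⟩ := h
  apply h1
  rw [map_pow, map_one]
  exact pow_42 (x := Ψ x) (by rw [orderOf_injective Ψ h1, hx]) (by rw [← map_mul, hxy, map_mul])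

end

end Cfsg.Agent.H9.O5
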