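import Cfsg.Agent.H938.Spr.Three

/-!
# 3/2-generation: three overgroups and a class of exceptional overgroups (helper9, S3938, `PΩ⁺₈(5)`)
-/

set_option autoImplicit false
set_option linter.unusedSectionVars false

namespace Cfsg.Agent.H9.O5

open scoped Pointwise
open Cfsg.Agent.H424.Spr Cfsg.Agent.H938.Spr

variable {L : Type*} [Group L] [IsSimpleGroup L] [Finite L]

theorem c_inv_mem {K : Subgroup L} {y z : L} (h : c y z ∈ K) : z ∈ c y⁻¹ • K := by
  have h1 := mem_smul (c y⁻¹) h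
  rwa [← MulAut.mul_apply, ← map_mul, inv_mul_cancel, map_one, MulAut.one_apply] at h1

theorem smul_ne_top {K : Subgroup L} (e : MulAut L) (h : K ≠ ⊤) : e • K ≠ ⊤ := by
  intro h1
  apply h
  rw [eq_top_iff]
  intro z _
  have h2 : e z ∈ e • K := by rw [h1]; trivial
  obtain ⟨k, hk, hk2⟩ := h2
  have h3 : k = z := e.injective hk2
  rw [← h3]
  exact hk

/-- **Three overgroups and exceptional ones** -/
theorem spr_of_three_tp (hna : ∃ x y : L, x * y ≠ y * x) {s : L} (U : Fin 3 → Subgroup L) (hc : ∀ i, IsCoatom (U i))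
    (Tp : Subgroup L → Prop) (hTp : ∀ (a : MulAut L) (K : Subgroup L), Tp K → Tp (a • K)) (nTp : ∀ i, ¬ Tp (U i))
    (h : ∀ K : Subgroup L, s ∈ K → K ≠ ⊤ → (∃ i, K ≤ U i) ∨ Tp K)
    (hinf : ∀ i j k, i ≠ j → U i ⊓ U j ≤ U k) (hn : ∀ i j, i ≠ j → ∀ y : L, c y • U i ≠ U j)
    (hN : ∀ (a : MulAut L) (K : Subgroup L), Tp K → s ∈ K → a • K = K → ∃ y : L, a • U 0 = c y • U 0)
    (hH : ∀ a : MulAut L, (∃ y : L, a • U 0 = c y • U 0) → a • U 0 ≠ U 0 →
      ∃ y ∈ U 0, (∀ i, i ≠ 0 → a • (c y • U i) ≠ c y • U i) ∧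
        ∀ K : Subgroup L, Tp K → c y s ∈ K → a • K ≠ K) : Spr L := by
  intro a ha
  by_contra hcon
  push Not at hcon
  have bad : ∀ y : L, ∃ K : Subgroup L, c y s ∈ K ∧ a • K = K ∧ K ≠ ⊤ := by
    intro y
    obtain ⟨K, hK1, hK2, hK3⟩ := hcon (c y s)
    exact ⟨K, hK1, smul_eq_of_inv hK2, hK3⟩
  have ovr : ∀ (e : MulAut L) (i : Fin 3), s ∈ e • U i → ∃ j, e • U i = U j := by
    intro e i hs
    rcases h (e • U i) hs (coatom_smul e (hc i)).1 with ⟨j, hj⟩ | hT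
    · exact ⟨j, (((coatom_smul e (hc i)).le_iff.1 hj).resolve_left (hc j).1).symm⟩
    · exfalso
      apply nTp i
      have h1 := hTp e⁻¹ _ hT
      rwa [inv_smul_smul] at h1
  -- moving the overgroups of an invariant subgroup
  have mv : ∀ (e : MulAut L) (K : Subgroup L), s ∈ K → e • K = K → ∀ i, K ≤ U i → ∃ j, e • U i = U j ∧ K ≤ U j := by
    intro e K hs he i hi
    have h1 : K ≤ e • U i := by
      conv_lhs => rw [← he]
      exact Subgroup.pointwise_smul_le_pointwise_smul_iff.2 hi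
    obtain ⟨j, hj⟩ := ovr e i (h1 hs)
    exact ⟨j, hj, hj ▸ h1⟩
  by_cases hT : ∃ v : L, a • U 0 = c v • U 0
  · obtain ⟨v, hv⟩ := hT
    apply ha
    refine eq_one_of_fix hna (hc 0) fun y₀ => ?_
    by_contra hmv
    set b : MulAut L := c y₀⁻¹ * a * c y₀ with hb
    have hbv : b • U 0 = c (y₀⁻¹ * a y₀ * v) • U 0 := by
      rw [hb, smul_c_conj, a_smul_c, hv, smul_smul, smul_smul, ← map_mul, ← map_mul, mul_assoc]
    obtain ⟨y, hy, g1, g2⟩ := hH b ⟨_, hbv⟩ (fun g => hmv ((fix_conj_iff a y₀ (U 0)).1 g))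
    obtain ⟨K, hK1, hK2, hK3⟩ := bad (y₀ * y)
    have hK1' : c y s ∈ c y₀⁻¹ • K := by
      apply c_inv_mem
      rwa [← MulAut.mul_apply, ← map_mul]
    have hbK : b • (c y₀⁻¹ • K) = c y₀⁻¹ • K := by
      rw [hb, fix_conj_iff a y₀ (c y₀⁻¹ • K), c_smul_inv, hK2]
    have hK3' : c y₀⁻¹ • K ≠ ⊤ := smul_ne_top _ hK3
    generalize c y₀⁻¹ • K = K₂ at hK1' hbK hK3'
    set e : MulAut L := c y⁻¹ * b * c y with he
    have s3 : s ∈ c y⁻¹ • K₂ := c_inv_mem hK1'
    have e3 : e • (c y⁻¹ • K₂) = c y⁻¹ • K₂ := by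
      rw [he, fix_conj_iff b y (c y⁻¹ • K₂), c_smul_inv, hbK]
    have key : ¬ c y⁻¹ • K₂ ≤ U 0 := by
      intro k1
      obtain ⟨j, hj, -⟩ := mv e _ s3 e3 0 k1
      by_cases h0 : j = 0
      · rw [h0] at hj
        have k2 := (fix_conj_iff b y (U 0)).1 hj
        rw [c_smul_self hy] at k2
        exact hmv ((fix_conj_iff a y₀ (U 0)).1 k2)
      · rw [he, smul_c_conj, c_smul_self hy, hbv, smul_smul, ← map_mul] at hj
        exact hn 0 j (Ne.symm h0) _ hj
    rcases h _ s3 (smul_ne_top _ hK3') with ⟨i, hi⟩ | hT3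
    · by_cases h0 : i = 0
      · exact key (h0 ▸ hi)
      · obtain ⟨j, hj, hj2⟩ := mv e _ s3 e3 i hi
        by_cases hij : j = i
        · rw [hij] at hj
          exact g1 i h0 ((fix_conj_iff b y (U i)).1 hj)
        · exact key ((le_inf hi hj2).trans (hinf i j 0 (Ne.symm hij)))
    · have h4 := hTp (c y) _ hT3
      rw [c_smul_inv] at h4
      exact g2 K₂ h4 hK1' hbK
  · push Not at hT
    refine no_moved hna ha U hc hn (fun y => ?_) ⟨0, hT⟩
    obtain ⟨K, hK1, hK2, hK3⟩ := bad y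
    set b : MulAut L := c y⁻¹ * a * c y with hb
    have hbK : b • (c y⁻¹ • K) = c y⁻¹ • K := by
      rw [hb, fix_conj_iff a y (c y⁻¹ • K), c_smul_inv, hK2]
    have back : ∀ {i j : Fin 3}, b • U i = U j → a • (c y • U i) = c y • U j := by
      intro i j hij
      rw [← hij, hb, smul_c_conj, c_smul_inv]
    rcases h _ (c_inv_mem hK1) (smul_ne_top _ hK3) with ⟨i, hi⟩ | hT3
    · obtain ⟨j, hj, hj2⟩ := mv b _ (c_inv_mem hK1) hbK i hi
      by_cases hij : j = i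
      · rw [hij] at hj
        exact Or.inl ⟨i, back hj⟩
      · right
        intro i'
        obtain ⟨j', hj', -⟩ := mv b _ (c_inv_mem hK1) hbK i' ((le_inf hi hj2).trans (hinf i j i' (Ne.symm hij)))
        exact ⟨j', back hj'⟩
    · exfalso
      obtain ⟨v, hv⟩ := hN b _ hT3 (c_inv_mem hK1) hbK
      apply hT ((a y)⁻¹ * (y * v))
      rw [map_mul, mul_smul, map_mul, mul_smul, ← hv, hb, smul_c_conj, c_smul_inv, a_smul_c, c_inv_smul]

end Cfsg.Agent.H9.O5
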