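import Mathlib

/-!
# S3938, `PΩ⁺₈(5)`: vectors with prescribed products with their images under an element of order 7 (helper9)
-/

set_option autoImplicit false

namespace Cfsg.Agent.H9.O5

open Module QuadraticMap

/-- the action of `2 (X + X⁻¹)` -/
def gg (t : ZMod 5 × ZMod 5 × ZMod 5) : ZMod 5 × ZMod 5 × ZMod 5 :=
  (t.1 + 3 * t.2.1 + t.2.2, 2 * t.1 + 2 * t.2.2, 2 * t.2.1 + 2 * t.2.2)

theorem gg_all : ∀ t : ZMod 5 × ZMod 5 × ZMod 5, t ≠ 0 → t ∈ List.iterate gg (1, 0, 0) 124 := by
  decide +kernel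

theorem gg_end : gg^[124] (1, 0, 0) = (1, 0, 0) := by
  decide +kernel

theorem gg_exists {t : ZMod 5 × ZMod 5 × ZMod 5} (ht : t ≠ 0) : ∃ n, n < 124 ∧ gg^[n] (1, 0, 0) = t := by
  have h := gg_all t ht
  rw [List.mem_iff_getElem] at h
  obtain ⟨i, hi, h⟩ := h
  rw [List.getElem_iterate] at h
  rw [List.length_iterate] at hi
  exact ⟨i, hi, h⟩

theorem gg_trans {t s : ZMod 5 × ZMod 5 × ZMod 5} (ht : t ≠ 0) (hs : s ≠ 0) : ∃ n, gg^[n] t = s := by
  obtain ⟨i, hi, rfl⟩ := gg_exists ht
  obtain ⟨j, hj, rfl⟩ := gg_exists hs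
  refine ⟨j + (124 - i), ?_⟩
  rw [← Function.iterate_add_apply, show j + (124 - i) + i = j + 124 by omega, Function.iterate_add_apply, gg_end]

/-- an element of order 7 with a fixed anisotropic plane -/
structure Dt {F V : Type*} [Field F] [AddCommGroup V] [Module F V] (Q : QuadraticForm F V) (X : V ≃ₗ[F] V)
    (W U : Submodule F V) : Prop where
  card : Nat.card F = 5
  nd : (polarBilin Q).Nondegenerate
  iso : ∀ v, Q (X v) = Q v
  pow : ∀ v, X (X (X (X (X (X (X v)))))) = v
  compl : IsCompl W U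
  dimW : finrank F W = 2
  perp : ∀ w ∈ W, ∀ u ∈ U, polar Q w u = 0
  XW : ∀ w ∈ W, X w = w
  XU : ∀ u ∈ U, X u ∈ U
  fixU : ∀ u ∈ U, X u = u → u = 0
  irr : ∀ K : Submodule F V, K ≤ U → (∀ v ∈ K, X v ∈ K) → finrank F K ≤ 3 → K = ⊥
  aniso : ∀ w ∈ W, Q w = 0 → w = 0
  ns : ∃ u ∈ U, Q u ≠ 0

variable {F V : Type*} [Field F] [AddCommGroup V] [Module F V] {Q : QuadraticForm F V} {X : V ≃ₗ[F] V}
  {W U : Submodule F V}

theorem exists_e (h : Nat.card F = 5) : Nonempty (F ≃+* ZMod 5) := by
  have : Finite F := Nat.finite_of_card_ne_zero (by rw [h]; norm_num)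
  have := Fintype.ofFinite F
  rw [Nat.card_eq_fintype_card] at h
  exact ⟨(ZMod.ringEquivOfPrime F Nat.prime_five h).symm⟩

theorem five_zero (h : Nat.card F = 5) : (5 : F) = 0 := by
  obtain ⟨e⟩ := exists_e h
  apply e.injective
  rw [map_zero, map_ofNat]
  rfl

theorem two_ne (h : Nat.card F = 5) : (2 : F) ≠ 0 := by
  obtain ⟨e⟩ := exists_e h
  intro h2
  have h3 := congrArg e h2
  rw [map_zero, map_ofNat] at h3
  exact absurd h3 (by decide)

section

variable (h : Dt Q X W U)
include h

theorem Dt.pi (v w : V) : polar Q (X v) (X w) = polar Q v w := by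
  simp only [polar, ← map_add, h.iso]

theorem Dt.four (v : V) : polar Q v (X (X (X (X v)))) = polar Q v (X (X (X v))) := by
  rw [← h.pi, ← h.pi, ← h.pi, h.pow, polar_comm]

theorem Dt.sum (u : V) (hu : u ∈ U) :
    u + X u + X (X u) + X (X (X u)) + X (X (X (X u))) + X (X (X (X (X u)))) + X (X (X (X (X (X u))))) = 0 := by
  apply h.fixU
  · have k1 := h.XU _ hu
    have k2 := h.XU _ k1
    have k3 := h.XU _ k2
    have k4 := h.XU _ k3
    have k5 := h.XU _ k4
    have k6 := h.XU _ k5
    exact U.add_mem (U.add_mem (U.add_mem (U.add_mem (U.add_mem (U.add_mem hu k1) k2) k3) k4) k5) k6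
  · simp only [map_add, h.pow]
    abel

/-- `B(v, v)` from the three products -/
theorem Dt.zero (u : V) (hu : u ∈ U) : polar Q u u =
    3 * (polar Q u (X u) + polar Q u (X (X u)) + polar Q u (X (X (X u)))) := by
  have h1 := congrArg (fun z => polar Q u z) (h.sum u hu)
  simp only [polar_add_right, polar_zero_right] at h1
  have e4 := h.four u
  have e5 : polar Q u (X (X (X (X (X u))))) = polar Q u (X (X u)) := by
    rw [← h.pi, ← h.pi, h.pow, polar_comm]
  have e6 : polar Q u (X (X (X (X (X (X u)))))) = polar Q u (X u) := by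
    rw [← h.pi, h.pow, polar_comm]
  rw [e4, e5, e6] at h1
  have h5 := five_zero h.card
  linear_combination h1 - (polar Q u (X u) + polar Q u (X (X u)) + polar Q u (X (X (X u)))) * h5

/-- **vectors with given products** -/
theorem Dt.exists_trip {b1 b2 b3 : F} (hb : ¬ (b1 = 0 ∧ b2 = 0 ∧ b3 = 0)) : ∃ v ∈ U, polar Q v (X v) = b1 ∧
    polar Q v (X (X v)) = b2 ∧ polar Q v (X (X (X v))) = b3 := by
  obtain ⟨e⟩ := exists_e h.card
  have h5 := five_zero h.card
  set tr : V → ZMod 5 × ZMod 5 × ZMod 5 := fun v =>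
    (e (polar Q v (X v)), e (polar Q v (X (X v))), e (polar Q v (X (X (X v))))) with htr
  obtain ⟨u, hu, hQ⟩ := h.ns
  have h0 : tr u ≠ 0 := by
    intro h1
    have h2 : e (polar Q u (X u)) = 0 := congrArg Prod.fst h1
    have h3 : e (polar Q u (X (X u))) = 0 := congrArg (fun s => s.2.1) h1
    have h4 : e (polar Q u (X (X (X u)))) = 0 := congrArg (fun s => s.2.2) h1
    rw [map_eq_zero_iff e e.injective] at h2 h3 h4
    have h6 := h.zero u hu
    rw [h2, h3, h4, add_zero, add_zero, mul_zero, polar_self, nsmul_eq_mul, Nat.cast_ofNat] at h6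
    exact hQ ((mul_eq_zero.1 h6).resolve_left (two_ne h.card))
  have hs : ((e b1, e b2, e b3) : ZMod 5 × ZMod 5 × ZMod 5) ≠ 0 := by
    intro h1
    apply hb
    have h2 : e b1 = 0 := congrArg Prod.fst h1
    have h3 : e b2 = 0 := congrArg (fun s => s.2.1) h1
    have h4 : e b3 = 0 := congrArg (fun s => s.2.2) h1
    rw [map_eq_zero_iff e e.injective] at h2 h3 h4
    exact ⟨h2, h3, h4⟩
  -- the step
  have step : ∀ v ∈ U, tr (v + (2 : F) • X v) = gg (tr v) := by
    intro v hv
    have z := h.zero v hv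
    have f := h.four v
    have p1 : polar Q (X v) v = polar Q v (X v) := polar_comm _ _ _
    have p2 : polar Q (X v) (X v) = polar Q v v := h.pi _ _
    have p3 : ∀ w, polar Q (X v) (X w) = polar Q v w := fun w => h.pi _ _
    have k1 : polar Q (v + (2 : F) • X v) (X (v + (2 : F) • X v)) =
        polar Q v (X v) + 3 * polar Q v (X (X v)) + polar Q v (X (X (X v))) := by
      simp only [map_add, map_smul, polar_add_left, polar_add_right, polar_smul_left, polar_smul_right, smul_eq_mul, p3]
      linear_combination 2 * z + (polar Q v (X v) * 2 + polar Q v (X (X v)) + polar Q v (X (X (X v)))) * h5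
    have k2 : polar Q (v + (2 : F) • X v) (X (X (v + (2 : F) • X v))) =
        2 * polar Q v (X v) + 2 * polar Q v (X (X (X v))) := by
      simp only [map_add, map_smul, polar_add_left, polar_add_right, polar_smul_left, polar_smul_right, smul_eq_mul, p3]
      linear_combination (polar Q v (X (X v))) * h5
    have k3 : polar Q (v + (2 : F) • X v) (X (X (X (v + (2 : F) • X v)))) =
        2 * polar Q v (X (X v)) + 2 * polar Q v (X (X (X v))) := by
      simp only [map_add, map_smul, polar_add_left, polar_add_right, polar_smul_left, polar_smul_right, smul_eq_mul, p3]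
      linear_combination (polar Q v (X (X (X v)))) * h5 + 2 * f
    refine Prod.ext ?_ (Prod.ext ?_ ?_)
    · change e _ = e (polar Q v (X v)) + 3 * e (polar Q v (X (X v))) + e (polar Q v (X (X (X v))))
      rw [k1, map_add, map_add, map_mul, map_ofNat]
    · change e _ = 2 * e (polar Q v (X v)) + 2 * e (polar Q v (X (X (X v))))
      rw [k2, map_add, map_mul, map_mul, map_ofNat]
    · change e _ = 2 * e (polar Q v (X (X v))) + 2 * e (polar Q v (X (X (X v))))
      rw [k3, map_add, map_mul, map_mul, map_ofNat]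
  have it : ∀ n : ℕ, ∃ v ∈ U, tr v = gg^[n] (tr u) := by
    intro n
    induction n with
    | zero => exact ⟨u, hu, rfl⟩
    | succ n ih =>
      obtain ⟨v, hv, he⟩ := ih
      refine ⟨v + (2 : F) • X v, U.add_mem hv (U.smul_mem _ (h.XU _ hv)), ?_⟩
      rw [step v hv, he, Function.iterate_succ_apply']
  obtain ⟨n, hn⟩ := gg_trans h0 hs
  obtain ⟨v, hv, he⟩ := it n
  rw [hn] at he
  refine ⟨v, hv, e.injective (congrArg Prod.fst he), e.injective (congrArg (fun s => s.2.1) he),
    e.injective (congrArg (fun s => s.2.2) he)⟩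

end

end Cfsg.Agent.H9.O5
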