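import Cfsg.Agent.ClassicalGeometry.WittQuad
import Cfsg.Agent.H9.O5.Tri

/-!
# S3938, `PΩ⁺₈(5)`: conjugates of an element of order 7 (helper9)
-/

set_option autoImplicit false
set_option linter.unusedSectionVars false

namespace Cfsg.Agent.H9.O5

open Module QuadraticMap

variable {F V : Type*} [Field F] [AddCommGroup V] [Module F V] [FiniteDimensional F V] {Q : QuadraticForm F V}
  {X : V ≃ₗ[F] V} {W U : Submodule F V}

section

variable (h : Dt Q X W U)
include h

/-- Witt's lemma in `U` -/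
theorem Dt.witt {k : ℕ} {x y : Fin k → V} (hx : ∀ i, x i ∈ U) (hy : ∀ i, y i ∈ U) (lx : LinearIndependent F x)
    (ly : LinearIndependent F y) (h1 : ∀ i, Q (x i) = Q (y i)) (h2 : ∀ i j, polar Q (x i) (x j) = polar Q (y i) (y j)) :
    ∃ R : V ≃ₗ[F] V, (∀ v, Q (R v) = Q v) ∧ (∀ w ∈ W, R w = w) ∧ ∀ i, R (x i) = y i := by
  let b : Basis (Fin 2) F W := finBasisOfFinrankEq F W h.dimW
  have lb : LinearIndependent F (fun i => (b i : V)) := b.linearIndependent.map' W.subtype (Submodule.ker_subtype W)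
  have sb : Submodule.span F (Set.range fun i => (b i : V)) ≤ W := by
    rw [Submodule.span_le]
    rintro _ ⟨i, rfl⟩
    exact (b i).2
  have sum : ∀ {x : Fin k → V}, (∀ i, x i ∈ U) → LinearIndependent F x →
      LinearIndependent F (Sum.elim (fun i => (b i : V)) x ∘ (finSumFinEquiv (m := 2) (n := k)).symm) := by
    intro x hx lx
    apply LinearIndependent.comp _ _ (Equiv.injective _)
    apply LinearIndependent.sum_type lb lx
    have sx : Submodule.span F (Set.range x) ≤ U := by
      rw [Submodule.span_le]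
      rintro _ ⟨i, rfl⟩
      exact hx i
    exact h.compl.disjoint.mono sb sx
  obtain ⟨R, hR, hRx⟩ := ClassicalGeometry.WittQuad.extend_family Q h.nd (2 + k) _ _ (sum hx lx) (sum hy ly) (by
    intro i
    simp only [Function.comp_apply]
    generalize (finSumFinEquiv (m := 2) (n := k)).symm i = i'
    rcases i' with i' | i'
    · rfl
    · exact h1 i') (by
    intro i j
    simp only [Function.comp_apply]
    generalize (finSumFinEquiv (m := 2) (n := k)).symm i = i'
    generalize (finSumFinEquiv (m := 2) (n := k)).symm j = j'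
    rcases i' with i' | i' <;> rcases j' with j' | j'
    · rfl
    · exact (h.perp _ (b i').2 _ (hx j')).trans (h.perp _ (b i').2 _ (hy j')).symm
    · change polar Q (x i') (b j') = polar Q (y i') (b j')
      rw [polar_comm, h.perp _ (b j').2 _ (hx i'), polar_comm, h.perp _ (b j').2 _ (hy i')]
    · exact h2 i' j')
  have hs : ∀ i, R (Sum.elim (fun i => (b i : V)) x i) = Sum.elim (fun i => (b i : V)) y i := by
    intro i
    have := hRx (finSumFinEquiv (m := 2) (n := k) i)
    simpa only [Function.comp_apply, Equiv.symm_apply_apply] using this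
  refine ⟨R, hR, fun w hw => ?_, fun i => hs (Sum.inr i)⟩
  have hb : ∀ w : W, R (w : V) = w := by
    intro w
    have e : (R : V →ₗ[F] V) ∘ₗ W.subtype = W.subtype := b.ext fun i => hs (Sum.inl i)
    exact LinearMap.congr_fun e w
  exact hb ⟨w, hw⟩

theorem Dt.mem_U {v : V} (hv : ∀ w ∈ W, polar Q w v = 0) : v ∈ U := by
  have h1 : v ∈ W ⊔ U := by rw [h.compl.sup_eq_top]; trivial
  obtain ⟨w, hw, u, hu, rfl⟩ := Submodule.mem_sup.1 h1
  have h2 : w = 0 := by
    apply h.aniso w hw
    have h3 := hv w hw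
    rw [polar_add_right, h.perp w hw u hu, add_zero, polar_self, nsmul_eq_mul, Nat.cast_ofNat] at h3
    exact (mul_eq_zero.1 h3).resolve_left (two_ne h.card)
  rw [h2, zero_add]
  exact hu

/-- isometries which are trivial on `W` preserve `U` -/
theorem Dt.RU {R : V ≃ₗ[F] V} (hR : ∀ v, Q (R v) = Q v) (hW : ∀ w ∈ W, R w = w) {u : V} (hu : u ∈ U) : R u ∈ U := by
  apply h.mem_U
  intro w hw
  have h1 : polar Q (R w) (R u) = polar Q w u := by simp only [polar, ← map_add, hR]
  rw [hW w hw, h.perp w hw u hu] at h1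
  exact h1

theorem Dt.conj {R : V ≃ₗ[F] V} (hR : ∀ v, Q (R v) = Q v) (hW : ∀ w ∈ W, R w = w) :
    Dt Q ((R.symm.trans X).trans R) W U := by
  have hR' : ∀ v, Q (R.symm v) = Q v := by
    intro v
    have := hR (R.symm v)
    rw [R.apply_symm_apply] at this
    exact this.symm
  have hW' : ∀ w ∈ W, R.symm w = w := fun w hw => by rw [LinearEquiv.symm_apply_eq, hW w hw]
  have hU' : ∀ u ∈ U, R.symm u ∈ U := fun u hu => h.RU hR' hW' hu
  have hX : ∀ v, ((R.symm.trans X).trans R) v = R (X (R.symm v)) := fun v => rfl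
  refine
    { card := h.card
      nd := h.nd
      iso := fun v => by rw [hX, hR, h.iso, hR']
      pow := fun v => by
        simp only [hX, R.symm_apply_apply, h.pow, R.apply_symm_apply]
      compl := h.compl
      dimW := h.dimW
      perp := h.perp
      XW := fun w hw => by rw [hX, hW' w hw, h.XW w hw, hW w hw]
      XU := fun u hu => by
        rw [hX]
        exact h.RU hR hW (h.XU _ (hU' u hu))
      fixU := fun u hu hf => by
        have h1 : X (R.symm u) = R.symm u := by
          rw [hX] at hf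
          conv_rhs => rw [← hf]
          rw [R.symm_apply_apply]
        have h2 := h.fixU _ (hU' u hu) h1
        rwa [LinearEquiv.symm_apply_eq, map_zero] at h2
      irr := fun K hK hinv hd => by
        have h1 : K.map (R.symm : V →ₗ[F] V) = ⊥ := by
          apply h.irr
          · rintro _ ⟨v, hv, rfl⟩
            exact hU' v (hK hv)
          · rintro _ ⟨v, hv, rfl⟩
            refine ⟨_, hinv v hv, ?_⟩
            change R.symm (R (X (R.symm v))) = X (R.symm v)
            rw [R.symm_apply_apply]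
          · rw [LinearEquiv.finrank_map_eq]
            exact hd
        rw [Submodule.eq_bot_iff] at h1 ⊢
        intro v hv
        have h2 : R.symm v = 0 := h1 _ ⟨v, hv, rfl⟩
        rwa [LinearEquiv.symm_apply_eq, map_zero] at h2
      aniso := h.aniso
      ns := h.ns }

/-- no eigenvectors -/
theorem Dt.no_eig {v : V} (hv : v ∈ U) (h0 : v ≠ 0) (l : F) : X v ≠ l • v := by
  intro h1
  apply h0
  have h2 := h.irr (Submodule.span F {v}) (by rwa [Submodule.span_singleton_le_iff_mem]) (by
    intro w hw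
    obtain ⟨a, rfl⟩ := Submodule.mem_span_singleton.1 hw
    rw [map_smul, h1]
    exact Submodule.smul_mem _ _ (Submodule.smul_mem _ _ (Submodule.mem_span_singleton_self v)))
    ((finrank_span_le_card ({v} : Set V)).trans (by simp))
  rwa [Submodule.span_singleton_eq_bot] at h2

theorem Dt.qe {u v : V} (huv : polar Q u u = polar Q v v) : Q u = Q v := by
  rw [polar_self, polar_self, nsmul_eq_mul, nsmul_eq_mul, Nat.cast_ofNat] at huv
  exact mul_left_cancel₀ (two_ne h.card) huv

/-- **one vector** -/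
theorem Dt.exists_conj_one {u : V} (hu : u ∈ U) (h0 : u ≠ 0) {b1 b2 b3 : F} (hb : ¬ (b1 = 0 ∧ b2 = 0 ∧ b3 = 0))
    (hz : polar Q u u = 3 * (b1 + b2 + b3)) : ∃ R : V ≃ₗ[F] V, (∀ v, Q (R v) = Q v) ∧ (∀ w ∈ W, R w = w) ∧
      ∀ X' : V ≃ₗ[F] V, X' = (R.symm.trans X).trans R → polar Q u (X' u) = b1 ∧ polar Q u (X' (X' u)) = b2 ∧
        polar Q u (X' (X' (X' u))) = b3 := by
  obtain ⟨v, hv, e1, e2, e3⟩ := h.exists_trip hb
  have hv0 : v ≠ 0 := by
    rintro rfl
    simp only [map_zero, polar_zero_left] at e1 e2 e3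
    exact hb ⟨e1.symm, e2.symm, e3.symm⟩
  have e0 : polar Q v v = polar Q u u := by rw [h.zero v hv, e1, e2, e3, hz]
  obtain ⟨R, hR, hW, hRx⟩ := h.witt (k := 1) (x := ![v]) (y := ![u]) (by simpa using hv) (by simpa using hu)
    (by simpa [linearIndependent_unique_iff] using hv0) (by simpa [linearIndependent_unique_iff] using h0)
    (by intro i; fin_cases i; exact h.qe e0) (by intro i j; fin_cases i; fin_cases j; exact e0)
  have hRv : R v = u := hRx 0
  have hp : ∀ a b, polar Q (R a) (R b) = polar Q a b := fun a b => by simp only [polar, ← map_add, hR]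
  have hs : R.symm u = v := by rw [LinearEquiv.symm_apply_eq, hRv]
  refine ⟨R, hR, hW, ?_⟩
  rintro X' rfl
  have hX : ∀ v, ((R.symm.trans X).trans R) v = R (X (R.symm v)) := fun v => rfl
  simp only [hX, R.symm_apply_apply, hs]
  rw [← e1, ← e2, ← e3, ← hp v, ← hp v, ← hp v, hRv]
  exact ⟨rfl, rfl, rfl⟩

/-- **two vectors** -/
theorem Dt.exists_conj_two {u₁ u₂ : V} (hu₁ : u₁ ∈ U) (hu₂ : u₂ ∈ U) (hli : LinearIndependent F ![u₁, u₂])
    {b1 b2 b3 : F} (hb : ¬ (b1 = 0 ∧ b2 = 0 ∧ b3 = 0))
    (hz₁ : polar Q u₁ u₁ = 3 * (b1 + b2 + b3)) (hz₂ : polar Q u₂ u₂ = 3 * (b1 + b2 + b3)) (hz : polar Q u₁ u₂ = b1) :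
    ∃ R : V ≃ₗ[F] V, (∀ v, Q (R v) = Q v) ∧ (∀ w ∈ W, R w = w) ∧
      ∀ X' : V ≃ₗ[F] V, X' = (R.symm.trans X).trans R → X' u₁ = u₂ ∧ polar Q u₁ (X' (X' u₁)) = b2 ∧
        polar Q u₁ (X' (X' (X' u₁))) = b3 := by
  obtain ⟨v, hv, e1, e2, e3⟩ := h.exists_trip hb
  have hv0 : v ≠ 0 := by
    rintro rfl
    simp only [map_zero, polar_zero_left] at e1 e2 e3
    exact hb ⟨e1.symm, e2.symm, e3.symm⟩
  have e0 : polar Q v v = polar Q u₁ u₁ := by rw [h.zero v hv, e1, e2, e3, hz₁]
  have e0' : polar Q (X v) (X v) = polar Q u₂ u₂ := by rw [h.pi, e0, hz₁, hz₂]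
  have e1' : polar Q v (X v) = polar Q u₁ u₂ := by rw [e1, hz]
  obtain ⟨R, hR, hW, hRx⟩ := h.witt (k := 2) (x := ![v, X v]) (y := ![u₁, u₂])
    (by intro i; fin_cases i; exact hv; exact h.XU _ hv) (by intro i; fin_cases i; exact hu₁; exact hu₂)
    (by rw [LinearIndependent.pair_iff' hv0]; exact fun a ha => h.no_eig hv hv0 a ha.symm) hli
    (by
      intro i
      fin_cases i
      · exact h.qe e0
      · exact h.qe e0') (by
      intro i j
      fin_cases i <;> fin_cases j
      · exact e0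
      · exact e1'
      · change polar Q (X v) v = polar Q u₂ u₁
        rw [polar_comm, e1', polar_comm]
      · exact e0')
  have hRv : R v = u₁ := hRx 0
  have hRv2 : R (X v) = u₂ := hRx 1
  have hp : ∀ a b, polar Q (R a) (R b) = polar Q a b := fun a b => by simp only [polar, ← map_add, hR]
  have hs : R.symm u₁ = v := by rw [LinearEquiv.symm_apply_eq, hRv]
  refine ⟨R, hR, hW, ?_⟩
  rintro X' rfl
  have hX : ∀ v, ((R.symm.trans X).trans R) v = R (X (R.symm v)) := fun v => rfl
  simp only [hX, R.symm_apply_apply, hs]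
  rw [← e2, ← e3, ← hp v, ← hp v, hRv]
  exact ⟨hRv2, rfl, rfl⟩

end

end Cfsg.Agent.H9.O5
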