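import Cfsg.Agent.H9.O5.Rot
import Cfsg.Agent.H9.O5.Witt

/-!
# S3938, `PΩ⁺₈(5)`: two planes with an intersection of dimension one (helper9)
-/

set_option autoImplicit false
set_option linter.unusedSectionVars false

namespace Cfsg.Agent.H9.O5

open Module QuadraticMap

variable {F V : Type*} [Field F] [AddCommGroup V] [Module F V] {Q : QuadraticForm F V}

section comp

variable {A : V ≃ₗ[F] V} {P : Submodule F V} (a : Rot3 Q A P) {w u : V} (hw : w ∈ P) (hu : u = A w - (2 : F) • w)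
include a hw hu

theorem Aw : A w = (2 : F) • w + u := by rw [hu]; module

theorem Au : A u = (3 : F) • w + (2 : F) • u := by
  have h1 := a.sum w hw
  have h5 := five_zero a.card
  have e1 : A u = A (A w) - (2 : F) • A w := by rw [hu, map_sub, map_smul]
  have e2 : A (A w) = -w - A w := by
    rw [← sub_eq_zero, ← h1]
    abel
  rw [e1, e2, Aw a hw hu]
  have : -w - ((2 : F) • w + u) - (2 : F) • ((2 : F) • w + u) - ((3 : F) • w + (2 : F) • u) =
      (-(5 : F) * 2) • w + (-(5 : F)) • u := by module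
  rw [← sub_eq_zero, this, h5]
  simp

theorem Bwu : polar Q w u = 0 := by
  rw [hu, polar_sub_right, polar_smul_right, a.two hw, smul_eq_mul, sub_self]

theorem u_mem : u ∈ P := by
  rw [hu]
  exact P.sub_mem (a.inv w hw) (P.smul_mem _ hw)

theorem u_ne (h0 : w ≠ 0) : u ≠ 0 := by
  rw [hu]
  intro h1
  exact a.no_eig hw h0 2 (sub_eq_zero.1 h1)

/-- vectors orthogonal to `w`, `u` are fixed -/
theorem fix_wu (h0 : w ≠ 0) {v : V} (h1 : polar Q w v = 0) (h2 : polar Q u v = 0) : A v = v := by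
  apply a.fix
  intro z hz
  have hli : LinearIndependent F ![w, u] := by
    rw [LinearIndependent.pair_iff' h0]
    intro l hl
    have h3 := Bwu a hw hu
    rw [← hl, polar_smul_right, smul_eq_mul] at h3
    rcases mul_eq_zero.1 h3 with h4 | h4
    · rw [h4, zero_smul] at hl
      exact u_ne a hw hu h0 hl.symm
    · exact h0 (a.aniso hw h4)
  obtain ⟨x, y, rfl⟩ := a.span hw (u_mem a hw hu) hli hz
  rw [polar_add_left, polar_smul_left, polar_smul_left, h1, h2]
  simp

variable {Y : V ≃ₗ[F] V} (hY : ∀ v, Q (Y v) = Q v) (hYw : Y w = w) (h0 : w ≠ 0)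
  (hb : polar Q u (Y u) = 3 * polar Q u u)
include hY hYw h0 hb

theorem comp_pow : A (Y (A (Y.symm (A (Y (A (Y.symm w))))))) = (3 : F) • w + (4 : F) • u ∧
    A (Y (A (Y.symm (A (Y (A (Y.symm (A (Y (A (Y.symm w))))))))))) = w := by
  have hp : ∀ v w, polar Q (Y v) (Y w) = polar Q v w := fun v w => by simp only [polar, ← map_add, hY]
  have hYw' : Y.symm w = w := by rw [LinearEquiv.symm_apply_eq, hYw]
  have h5 := five_zero a.card
  have hwYu : polar Q w (Y u) = 0 := by
    rw [← hYw, hp, Bwu a hw hu]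
  have e1 := Aw a hw hu
  have e2 := Au a hw hu
  -- `A (Y u)`
  have e3 : A (Y u) = Y u + (3 : F) • u + (9 : F) • w := by
    have h1 : A (Y u - (3 : F) • u) = Y u - (3 : F) • u := by
      apply fix_wu a hw hu h0
      · rw [polar_sub_right, polar_smul_right, hwYu, Bwu a hw hu, smul_zero, sub_zero]
      · rw [polar_sub_right, polar_smul_right, hb, smul_eq_mul, sub_self]
    rw [map_sub, map_smul, e2] at h1
    have h2 : A (Y u) = Y u - (3 : F) • u + (3 : F) • ((3 : F) • w + (2 : F) • u) := by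
      rw [← h1]; abel
    rw [h2]
    module
  -- `A_Y u`
  have e4 : Y (A (Y.symm u)) = u + (3 : F) • Y u + (9 : F) • w := by
    have h1 : A (Y.symm (u - (3 : F) • Y u)) = Y.symm (u - (3 : F) • Y u) := by
      apply fix_wu a hw hu h0
      · rw [← hp, Y.apply_symm_apply, hYw, polar_sub_right, polar_smul_right, hwYu, Bwu a hw hu, smul_zero, sub_zero]
      · rw [← hp, Y.apply_symm_apply, polar_sub_right, polar_smul_right, hp, polar_comm Q (Y u) u, hb, smul_eq_mul,
          sub_self]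
    have h2 := congrArg Y h1
    rw [Y.apply_symm_apply, map_sub Y.symm, map_smul Y.symm, Y.symm_apply_apply, map_sub, map_smul, map_sub, map_smul,
      e2, map_add, map_smul, map_smul, hYw] at h2
    have h3 : Y (A (Y.symm u)) = u - (3 : F) • Y u + (3 : F) • ((3 : F) • w + (2 : F) • Y u) := by
      rw [← h2]; abel
    rw [h3]
    module
  have e5 : Y (A (Y.symm w)) = (2 : F) • w + Y u := by rw [hYw', e1, map_add, map_smul, hYw]
  have e6 : Y (A (Y.symm (Y u))) = (3 : F) • w + (2 : F) • Y u := by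
    rw [Y.symm_apply_apply, e2, map_add, map_smul, map_smul, hYw]
  have c : ∀ (x y z : F), A (Y (A (Y.symm (x • w + y • u + z • Y u)))) =
      (3 * x + 3 * y + 4 * z) • w + (4 * z) • u + (x + 3 * y + 2 * z) • Y u := by
    intro x y z
    have k1 : Y (A (Y.symm (x • w + y • u + z • Y u))) = x • Y (A (Y.symm w)) + y • Y (A (Y.symm u)) +
        z • Y (A (Y.symm (Y u))) := by
      simp only [map_add, map_smul]
    rw [k1, e4, e5, e6]
    simp only [map_add, map_smul, e1, e2, e3]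
    rw [← sub_eq_zero]
    have : x • ((2 : F) • ((2 : F) • w + u) + (Y u + (3 : F) • u + (9 : F) • w)) +
        y • ((3 : F) • w + (2 : F) • u + (3 : F) • (Y u + (3 : F) • u + (9 : F) • w) +
          (9 : F) • ((2 : F) • w + u)) +
        z • ((3 : F) • ((2 : F) • w + u) + (2 : F) • (Y u + (3 : F) • u + (9 : F) • w)) -
        ((3 * x + 3 * y + 4 * z) • w + (4 * z) • u + (x + 3 * y + 2 * z) • Y u) =
        (5 * (2 * x + 9 * y + 4 * z)) • w + (5 * (x + 4 * y + z)) • u + (0 : F) • Y u := by module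
    rw [this, h5]
    simp
  have c0 := c 1 0 0
  have w1 : (1 : F) • w + (0 : F) • u + (0 : F) • Y u = w := by module
  rw [w1] at c0
  have c1 := c 3 0 1
  have c2 := c 3 4 0
  have k0 : A (Y (A (Y.symm w))) = (3 : F) • w + (0 : F) • u + (1 : F) • Y u := by
    rw [c0]; module
  have k1 : A (Y (A (Y.symm (A (Y (A (Y.symm w))))))) = (3 : F) • w + (4 : F) • u := by
    rw [k0, c1]
    rw [← sub_eq_zero]
    have : (3 * 3 + 3 * 0 + 4 * 1 : F) • w + (4 * 1 : F) • u + (3 + 3 * 0 + 2 * 1 : F) • Y u -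
        ((3 : F) • w + (4 : F) • u) = (5 * 2 : F) • w + (5 : F) • Y u := by module
    rw [this, h5]
    simp
  refine ⟨k1, ?_⟩
  rw [k1]
  have k2 : (3 : F) • w + (4 : F) • u = (3 : F) • w + (4 : F) • u + (0 : F) • Y u := by module
  rw [k2, c2, ← sub_eq_zero]
  have : (3 * 3 + 3 * 4 + 4 * 0 : F) • w + (4 * 0 : F) • u + (3 + 3 * 4 + 2 * 0 : F) • Y u - w =
      (5 * 4 : F) • w + (5 * 3 : F) • Y u := by module
  rw [this, h5]
  simp

theorem not_mult (e : F) : (3 : F) • w + (4 : F) • u ≠ e • w := by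
  intro h1
  have h2 : (4 : F) • u = (e - 3) • w := by
    rw [sub_smul, ← h1]; abel
  have h3 := congrArg (fun z => polar Q w z) h2
  simp only [polar_smul_right, Bwu a hw hu, smul_eq_mul, mul_zero] at h3
  have h4 : polar Q w w ≠ 0 := fun h5 => h0 (a.aniso hw h5)
  have h5 : e - 3 = 0 := (mul_eq_zero.1 h3.symm).resolve_right h4
  rw [h5, zero_smul] at h2
  have h6 : (4 : F) ≠ 0 := by
    have : (4 : F) = 2 * 2 := by norm_num
    rw [this]
    exact mul_ne_zero (two_ne a.card) (two_ne a.card)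
  exact (smul_eq_zero.1 h2).elim h6 (u_ne a hw hu h0)

theorem not_sc2 : ¬ Sc ((A * (Y * A * Y⁻¹)) ^ 2) := by
  rintro ⟨e, he⟩
  apply not_mult a hw hu hY hYw h0 hb e
  rw [← (comp_pow a hw hu hY hYw h0 hb).1, ← he w]
  rw [pow_two]
  rfl

theorem not_sc5 : ¬ Sc ((A * (Y * A * Y⁻¹)) ^ 5) := by
  rintro ⟨e, he⟩
  apply not_mult a hw hu hY hYw h0 hb e
  have h2 : ((A * (Y * A * Y⁻¹)) ^ 2) w = (3 : F) • w + (4 : F) • u := (comp_pow a hw hu hY hYw h0 hb).1
  have h3 : ((A * (Y * A * Y⁻¹)) ^ 3) w = w := (comp_pow a hw hu hY hYw h0 hb).2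
  rw [← he w, show 5 = 2 + 3 from rfl, pow_add, LinearEquiv.mul_apply, h3, h2]

end comp

/-- commuting up to a scalar -/
def Cm (T A : V ≃ₗ[F] V) : Prop := ∃ e : F, ∀ v, T (A v) = e • A (T v)

/-- the relations with the conjugates by an element of order seven -/
def Rel1 (A T X : V ≃ₗ[F] V) : Prop :=
  Cm T A ∨ Sc ((A * (X * A * X⁻¹)) ^ 2) ∨ Sc ((A * (X * A * X⁻¹)) ^ 5) ∨ Sc ((A * (X ^ 2 * A * (X ^ 2)⁻¹)) ^ 5)

/-- the relations between two rotations -/
def Rel2 (A X : V ≃ₗ[F] V) : Prop :=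
  Cm A (X ^ 2 * A * (X ^ 2)⁻¹) ∨ Sc ((A * (X ^ 2 * A * (X ^ 2)⁻¹)) ^ 5) ∨ Sc ((A * (X ^ 2 * A * (X ^ 2)⁻¹)) ^ 2) ∨
    Sc ((A * (X ^ 2 * A * (X ^ 2)⁻¹)⁻¹) ^ 2)

/-- no field `F[J]` is centralised by both elements -/
def NoJ (A X : V ≃ₗ[F] V) : Prop :=
  ∀ (J : Module.End F V) (c d : F), (∀ v, J (J v) = c • J v - d • v) → (∀ z : F, z * z - c * z + d ≠ 0) →
    (∀ v, J (X v) = X (J v)) → ¬ ∀ v, J (A v) = A (J v)

theorem Cm.eq {T A : V ≃ₗ[F] V} (hc : Cm T A) (h5 : Nat.card F = 5) (hA : ∀ v, A (A (A v)) = v) (v : V) :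
    T (A v) = A (T v) := by
  obtain ⟨e, he⟩ := hc
  by_cases hv : ∃ v : V, v ≠ 0
  · obtain ⟨z, hz⟩ := hv
    have h1 : T z = (e * e * e) • T z := by
      conv_lhs => rw [← hA z]
      rw [he, he, he, map_smul, map_smul, map_smul, hA, smul_smul, smul_smul]
    have h2 : (e * e * e - 1) • T z = 0 := by rw [sub_smul, one_smul, ← h1, sub_self]
    have h3 : e = 1 := by
      apply cube_one h5
      refine sub_eq_zero.1 ((smul_eq_zero.1 h2).resolve_right ?_)
      intro h4
      exact hz ((map_eq_zero_iff T T.injective).1 h4)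
    rw [he, h3, one_smul]
  · push Not at hv
    rw [hv (T (A v)), hv (A (T v))]

theorem J_eig {J : Module.End F V} {c d : F} (sq : ∀ v, J (J v) = c • J v - d • v)
    (irr : ∀ z : F, z * z - c * z + d ≠ 0) {v : V} (hv : v ≠ 0) (z : F) : J v ≠ z • v := by
  intro h
  have h1 := sq v
  rw [h, map_smul, h, smul_smul, smul_smul, ← sub_smul] at h1
  have h2 : (z * z - c * z + d) • v = 0 := by
    have : (z * z - c * z + d) • v = (z * z) • v - (c * z - d) • v := by module
    rw [this, h1, sub_self]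
  exact (smul_eq_zero.1 h2).elim (irr z) hv

section main

variable [FiniteDimensional F V] {X : V ≃ₗ[F] V} {W U : Submodule F V} (h : Dt Q X W U) {A T : V ≃ₗ[F] V}
  {P : Submodule F V} (a : Rot3 Q A P)
include h

theorem Dt.fix_mem {v : V} (hv : X v = v) : v ∈ W := by
  have h1 : v ∈ W ⊔ U := by rw [h.compl.sup_eq_top]; trivial
  obtain ⟨w, hw, u, hu, rfl⟩ := Submodule.mem_sup.1 h1
  rw [map_add, h.XW w hw, add_right_inj] at hv
  rw [h.fixU u hu hv, add_zero]
  exact hw

theorem Dt.J_W {J : Module.End F V} (hJ : ∀ v, J (X v) = X (J v)) {w : V} (hw : w ∈ W) : J w ∈ W := by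
  apply h.fix_mem
  rw [← hJ, h.XW w hw]

include a

/-- an intersection of dimension one -/
theorem inter_one (hne : P ≠ W) {w z : V} (hw : w ∈ P) (hwW : w ∈ W) (h0 : w ≠ 0) (hz : z ∈ P) (hzW : z ∈ W) :
    ∃ l : F, z = l • w := by
  by_contra hcon
  push Not at hcon
  apply hne
  have hli : LinearIndependent F ![w, z] := by
    rw [LinearIndependent.pair_iff' h0]
    exact fun l hl => hcon l hl.symm
  apply Submodule.eq_of_le_of_finrank_eq
  · intro v hv
    obtain ⟨x, y, rfl⟩ := a.span hw hz hli hv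
    exact W.add_mem (W.smul_mem _ hwW) (W.smul_mem _ hzW)
  · rw [a.dim, h.dimW]

/-- **Case A** -/
theorem caseA (t : Rot3 Q T W) (hne : P ≠ W) {w : V} (hw : w ∈ P) (hwW : w ∈ W) (h0 : w ≠ 0) :
    ∃ R : V ≃ₗ[F] V, (∀ v, Q (R v) = Q v) ∧ (∀ w ∈ W, R w = w) ∧ ∀ X' : V ≃ₗ[F] V, X' = (R.symm.trans X).trans R →
      NoJ A X' ∧ ¬ Rel1 A T X' := by
  obtain ⟨u, hu⟩ : ∃ u, u = A w - (2 : F) • w := ⟨_, rfl⟩
  have huP := u_mem a hw hu
  have hwu := Bwu a hw hu
  have h1 : u ∈ W ⊔ U := by rw [h.compl.sup_eq_top]; trivial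
  obtain ⟨w', hw', v, hv, huv⟩ := Submodule.mem_sup.1 h1
  have h5 := five_zero h.card
  have hww' : polar Q w w' = 0 := by
    rw [← huv, polar_add_right, h.perp w hwW v hv, add_zero] at hwu
    exact hwu
  have hv0 : v ≠ 0 := by
    rintro rfl
    rw [add_zero] at huv
    obtain ⟨l, hl⟩ := inter_one h a hne hw hwW h0 huP (huv ▸ hw')
    rw [hl, polar_smul_right, smul_eq_mul] at hwu
    rcases mul_eq_zero.1 hwu with h2 | h2
    · rw [h2, zero_smul] at hl
      exact u_ne a hw hu h0 hl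
    · exact h0 (a.aniso hw h2)
  have hD : polar Q u u = polar Q w' w' + polar Q v v := by
    rw [← huv]
    simp only [polar_add_left, polar_add_right]
    rw [h.perp w' hw' v hv, polar_comm Q v w', h.perp w' hw' v hv]
    ring
  have hD0 : polar Q u u ≠ 0 := fun h2 => u_ne a hw hu h0 (a.aniso huP h2)
  obtain ⟨R, hR, hRW, hRX⟩ := h.exists_conj_one hv hv0 (b1 := 2 * polar Q w' w' + 3 * polar Q v v)
    (b2 := 2 * polar Q w' w' + 3 * polar Q v v) (b3 := polar Q u u) (fun h2 => hD0 h2.2.2) (by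
      rw [hD]
      linear_combination (-(3 * polar Q w' w' + 4 * polar Q v v)) * h5)
  refine ⟨R, hR, hRW, fun X' hX' => ?_⟩
  obtain ⟨b1, b2, -⟩ := hRX X' hX'
  have hc := h.conj hR hRW
  rw [← hX'] at hc
  refine ⟨?_, ?_⟩
  · intro J c d sq irr hJX hJA
    obtain ⟨l, hl⟩ := inter_one h a hne hw hwW h0 (a.comm hJA hw) (hc.J_W hJX hwW)
    exact J_eig sq irr h0 l hl
  · have g : ∀ Y : V ≃ₗ[F] V, (∀ v, Q (Y v) = Q v) → (∀ w ∈ W, Y w = w) → Y v ∈ U →
        polar Q v (Y v) = 2 * polar Q w' w' + 3 * polar Q v v → polar Q u (Y u) = 3 * polar Q u u := by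
      intro Y hY hYW hYU hb
      rw [hD, ← huv, map_add, hYW w' hw']
      simp only [polar_add_left, polar_add_right]
      rw [hb, h.perp w' hw' _ hYU, polar_comm Q v w', h.perp w' hw' v hv]
      ring
    have g1 := g X' hc.iso hc.XW (hc.XU v hv) b1
    have g2 := g (X' ^ 2) (fun v => by rw [pow_two, LinearEquiv.mul_apply, hc.iso, hc.iso])
      (fun w hw => by rw [pow_two, LinearEquiv.mul_apply, hc.XW w hw, hc.XW w hw])
      (by rw [pow_two, LinearEquiv.mul_apply]; exact hc.XU _ (hc.XU v hv))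
      (by rw [pow_two, LinearEquiv.mul_apply]; exact b2)
    rintro (h2 | h2 | h2 | h2)
    · -- `T` and `A` commute
      have h3 := h2.eq h.card a.cube
      obtain ⟨l, hl⟩ := inter_one h a hne hw hwW h0 (a.comm (J := (T : V →ₗ[F] V)) h3 hw) (t.inv w hwW)
      exact t.no_eig hwW h0 l hl
    · exact not_sc2 a hw hu hc.iso (hc.XW w hwW) h0 g1 h2
    · exact not_sc5 a hw hu hc.iso (hc.XW w hwW) h0 g1 h2
    · exact not_sc5 a hw hu (Y := X' ^ 2) (fun v => by rw [pow_two, LinearEquiv.mul_apply, hc.iso, hc.iso])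
        (by rw [pow_two, LinearEquiv.mul_apply, hc.XW w hwW, hc.XW w hwW]) h0 g2 h2

end main

end Cfsg.Agent.H9.O5
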