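import Cfsg.Agent.H9.O5.Tri

/-!
# S3938, `PΩ⁺₈(5)`: the finite check for two planes in general position (helper9)
-/

set_option autoImplicit false
set_option linter.unusedSimpArgs false

namespace Cfsg.Agent.H9.O5

open Module QuadraticMap

/-- `b₀` -/
def b0 {K : Type*} [CommRing K] (b1 b2 b3 : K) : K := 3 * (b1 + b2 + b3)

def g11 {K : Type*} [CommRing K] (a b : K) : K := a * a + 4 * a * b + b * b
def g12 {K : Type*} [CommRing K] (a b c d : K) : K := a * c + 2 * (a * d + b * c) + b * d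
def dl {K : Type*} [CommRing K] (g1 g2 g3 : K) : K := g1 * g3 - g2 * g2
def k11 {K : Type*} [CommRing K] (g1 g2 g3 c1 c2 : K) : K :=
  dl g1 g2 g3 * g1 - (c1 * c1 * g3 - 2 * c1 * c2 * g2 + c2 * c2 * g1)
def k22 {K : Type*} [CommRing K] (g1 g2 g3 c1 c2 : K) : K :=
  dl g1 g2 g3 * g3 - (c1 * c1 * g3 - 2 * c1 * c2 * g2 + c2 * c2 * g1)
def k12 {K : Type*} [CommRing K] (g1 g2 g3 c11 c12 c21 c22 : K) : K :=
  dl g1 g2 g3 * g2 - (c11 * c12 * g3 - (c11 * c22 + c21 * c12) * g2 + c21 * c22 * g1)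

def dk {K : Type*} [CommRing K] (g1 g2 g3 c11 c12 c21 c22 : K) : K :=
  k11 g1 g2 g3 c11 c21 * k22 g1 g2 g3 c12 c22 - k12 g1 g2 g3 c11 c12 c21 c22 * k12 g1 g2 g3 c11 c12 c21 c22

/-- the witnesses -/
structure Fw {K : Type*} [CommRing K] (r0 r1 r2 a b c d b1 b2 b3 : K) : Prop where
  e11 : a * a * r0 + 2 * a * b * r1 + b * b * r2 = b0 b1 b2 b3
  e22 : c * c * r0 + 2 * c * d * r1 + d * d * r2 = b0 b1 b2 b3
  e12 : a * c * r0 + (a * d + b * c) * r1 + b * d * r2 = b1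
  ne : ¬ (b1 = 0 ∧ b2 = 0 ∧ b3 = 0)
  li : a * d - b * c ≠ 0
  cn : ¬ (g11 a b - b0 b1 b2 b3 + b2 = 0 ∧ g12 a b c d - b1 + b3 = 0 ∧ g12 a b c d = 0 ∧
    g11 c d - b0 b1 b2 b3 + b2 = 0)
  dn : dl (g11 a b) (g12 a b c d) (g11 c d) ≠ 0
  kn : dk (g11 a b) (g12 a b c d) (g11 c d) (g11 a b - b0 b1 b2 b3 + b2) (g12 a b c d - b1 + b3) (g12 a b c d)
    (g11 c d - b0 b1 b2 b3 + b2) ≠ 0

/-- the codes of the witnesses -/
def tab : List ℕ := [1280, 0, 155, 0, 155, 30, 0, 280, 405, 0, 0, 1030, 0, 305, 2155, 30, 0, 305, 430, 0, 30, 0, 405, 0,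
  1055, 0, 0, 0, 0, 0, 0, 0, 0, 0, 0, 155, 655, 1405, 155, 1405, 0, 0, 0, 0, 0, 0, 0, 0, 0, 0, 151, 0, 1280, 55, 0,
  530, 0, 30, 0, 405, 0, 430, 0, 55, 555, 405, 0, 655, 0, 180, 155, 0, 30, 155, 0, 0, 0, 55, 30, 280, 155, 0, 0, 30,
  155, 405, 180, 55, 0, 0, 280, 0, 0, 1905, 430, 0, 0, 905, 30, 530, 151, 0, 0, 305, 30, 0, 0, 180, 1430, 30, 530,
  280, 1155, 0, 0, 0, 0, 155, 155, 30, 280, 0, 0, 1180, 30]

def cd (r0 r1 r2 : ZMod 5) : ℕ := tab.getD (r0.val * 25 + r1.val * 5 + r2.val) 0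

def wa (n : ℕ) : ZMod 5 := n
def wb (n : ℕ) : ZMod 5 := (n / 5 : ℕ)
def wc (n : ℕ) : ZMod 5 := (n / 25 : ℕ)
def wd (n : ℕ) : ZMod 5 := (n / 125 : ℕ)
def w2 (n : ℕ) : ZMod 5 := (n / 625 : ℕ)

def chk (r0 r1 r2 a b c d b1 b2 b3 : ZMod 5) : Bool :=
  decide (a * a * r0 + 2 * a * b * r1 + b * b * r2 = b0 b1 b2 b3) &&
  decide (c * c * r0 + 2 * c * d * r1 + d * d * r2 = b0 b1 b2 b3) &&
  decide (a * c * r0 + (a * d + b * c) * r1 + b * d * r2 = b1) &&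
  decide (¬ (b1 = 0 ∧ b2 = 0 ∧ b3 = 0)) &&
  decide (a * d - b * c ≠ 0) &&
  decide (¬ (g11 a b - b0 b1 b2 b3 + b2 = 0 ∧ g12 a b c d - b1 + b3 = 0 ∧ g12 a b c d = 0 ∧
    g11 c d - b0 b1 b2 b3 + b2 = 0)) &&
  decide (dl (g11 a b) (g12 a b c d) (g11 c d) ≠ 0) &&
  decide (dk (g11 a b) (g12 a b c d) (g11 c d) (g11 a b - b0 b1 b2 b3 + b2) (g12 a b c d - b1 + b3) (g12 a b c d)
    (g11 c d - b0 b1 b2 b3 + b2) ≠ 0)

theorem chk_fw {r0 r1 r2 a b c d b1 b2 b3 : ZMod 5} (h : chk r0 r1 r2 a b c d b1 b2 b3 = true) :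
    Fw r0 r1 r2 a b c d b1 b2 b3 := by
  simp only [chk, Bool.and_eq_true, decide_eq_true_eq] at h
  obtain ⟨⟨⟨⟨⟨⟨⟨h1, h2⟩, h3⟩, h4⟩, h5⟩, h6⟩, h7⟩, h8⟩ := h
  exact ⟨h1, h2, h3, h4, h5, h6, h7, h8⟩

def go (r0 r1 r2 : ZMod 5) (n : ℕ) : Bool :=
  let a := wa n
  let b := wb n
  let c := wc n
  let d := wd n
  let b1 := a * c * r0 + (a * d + b * c) * r1 + b * d * r2
  let b2 := w2 n
  chk r0 r1 r2 a b c d b1 b2 (2 * (a * a * r0 + 2 * a * b * r1 + b * b * r2) - b1 - b2)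

theorem go_all : ∀ r0 r1 r2 : ZMod 5, (∀ x y : ZMod 5, x * x * (1 - r0) + 2 * x * y * (2 - r1) + y * y * (1 - r2) = 0 →
    x * (1 - r0) + y * (2 - r1) = 0 ∧ x * (2 - r1) + y * (1 - r2) = 0) → go r0 r1 r2 (cd r0 r1 r2) = true := by
  decide +kernel

/-- **the finite check** -/
theorem exists_fw {F : Type*} [Field F] (hF : Nat.card F = 5) (r0 r1 r2 : F)
    (h : ∀ x y : F, x * x * (1 - r0) + 2 * x * y * (2 - r1) + y * y * (1 - r2) = 0 →
      x * (1 - r0) + y * (2 - r1) = 0 ∧ x * (2 - r1) + y * (1 - r2) = 0) :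
    ∃ a b c d b1 b2 b3 : F, Fw r0 r1 r2 a b c d b1 b2 b3 := by
  obtain ⟨e⟩ := exists_e hF
  have h1 := go_all (e r0) (e r1) (e r2) (by
    intro x y hxy
    have h2 := h (e.symm x) (e.symm y) (by
      apply e.injective
      simp only [map_add, map_mul, map_sub, map_ofNat, map_one, map_zero, e.apply_symm_apply]
      exact hxy)
    have h3 := congrArg e h2.1
    have h4 := congrArg e h2.2
    simp only [map_add, map_mul, map_sub, map_ofNat, map_one, map_zero, e.apply_symm_apply] at h3 h4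
    exact ⟨h3, h4⟩)
  obtain ⟨a, b, c, d, b1, b2, b3, hw⟩ : ∃ a b c d b1 b2 b3 : ZMod 5, Fw (e r0) (e r1) (e r2) a b c d b1 b2 b3 :=
    ⟨_, _, _, _, _, _, _, chk_fw h1⟩
  refine ⟨e.symm a, e.symm b, e.symm c, e.symm d, e.symm b1, e.symm b2, e.symm b3, ?_⟩
  have ev : ∀ {s : F} {s' : ZMod 5}, e s = s' → s' ≠ 0 → s ≠ 0 := by
    rintro s s' rfl hs rfl
    exact hs (map_zero e)
  refine ⟨?_, ?_, ?_, ?_, ?_, ?_, ?_, ?_⟩
  · apply e.injective
    have := hw.e11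
    simp only [b0, map_add, map_mul, map_sub, map_ofNat, map_one, map_zero, e.apply_symm_apply] at this ⊢
    exact this
  · apply e.injective
    have := hw.e22
    simp only [b0, map_add, map_mul, map_sub, map_ofNat, map_one, map_zero, e.apply_symm_apply] at this ⊢
    exact this
  · apply e.injective
    have := hw.e12
    simp only [b0, map_add, map_mul, map_sub, map_ofNat, map_one, map_zero, e.apply_symm_apply] at this ⊢
    exact this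
  · have := hw.ne
    rintro ⟨h2, h3, h4⟩
    apply this
    rw [map_eq_zero_iff _ e.symm.injective] at h2 h3 h4
    exact ⟨h2, h3, h4⟩
  · apply ev _ hw.li
    simp only [map_mul, map_sub, e.apply_symm_apply]
  · have := hw.cn
    rintro ⟨h2, h3, h4, h6⟩
    apply this
    have h2' := congrArg e h2
    have h3' := congrArg e h3
    have h4' := congrArg e h4
    have h6' := congrArg e h6
    simp only [b0, g11, g12, map_add, map_mul, map_sub, map_ofNat, map_one, map_zero, e.apply_symm_apply] at h2' h3' h4' h6' ⊢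
    exact ⟨h2', h3', h4', h6'⟩
  · apply ev _ hw.dn
    simp only [dl, g11, g12, map_add, map_mul, map_sub, map_ofNat, map_one, map_zero, e.apply_symm_apply]
  · apply ev _ hw.kn
    simp only [dk, k11, k12, k22, dl, b0, g11, g12, map_add, map_mul, map_sub, map_ofNat, map_one, map_zero,
      e.apply_symm_apply]

/-- nondegeneracy -/
theorem solve4 {K : Type*} [Field K] {g1 g2 g3 c11 c12 c21 c22 x1 x2 y1 y2 : K} (hd : dl g1 g2 g3 ≠ 0)
    (hk : dk g1 g2 g3 c11 c12 c21 c22 ≠ 0) (e1 : g1 * x1 + g2 * x2 + c11 * y1 + c12 * y2 = 0)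
    (e2 : g2 * x1 + g3 * x2 + c21 * y1 + c22 * y2 = 0) (e3 : c11 * x1 + c21 * x2 + g1 * y1 + g2 * y2 = 0)
    (e4 : c12 * x1 + c22 * x2 + g2 * y1 + g3 * y2 = 0) : x1 = 0 ∧ x2 = 0 ∧ y1 = 0 ∧ y2 = 0 := by
  have hx1 : dl g1 g2 g3 * x1 = -g3 * (c11 * y1 + c12 * y2) + g2 * (c21 * y1 + c22 * y2) := by
    unfold dl
    linear_combination g3 * e1 - g2 * e2
  have hx2 : dl g1 g2 g3 * x2 = g2 * (c11 * y1 + c12 * y2) - g1 * (c21 * y1 + c22 * y2) := by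
    unfold dl
    linear_combination g1 * e2 - g2 * e1
  have k1 : k11 g1 g2 g3 c11 c21 * y1 + k12 g1 g2 g3 c11 c12 c21 c22 * y2 = 0 := by
    unfold k11 k12
    linear_combination dl g1 g2 g3 * e3 - c11 * hx1 - c21 * hx2
  have k2 : k12 g1 g2 g3 c11 c12 c21 c22 * y1 + k22 g1 g2 g3 c12 c22 * y2 = 0 := by
    unfold k22 k12
    linear_combination dl g1 g2 g3 * e4 - c12 * hx1 - c22 * hx2
  have hy1 : dk g1 g2 g3 c11 c12 c21 c22 * y1 = 0 := by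
    unfold dk
    linear_combination k22 g1 g2 g3 c12 c22 * k1 - k12 g1 g2 g3 c11 c12 c21 c22 * k2
  have hy2 : dk g1 g2 g3 c11 c12 c21 c22 * y2 = 0 := by
    unfold dk
    linear_combination k11 g1 g2 g3 c11 c21 * k2 - k12 g1 g2 g3 c11 c12 c21 c22 * k1
  have y1z := (mul_eq_zero.1 hy1).resolve_left hk
  have y2z := (mul_eq_zero.1 hy2).resolve_left hk
  rw [y1z, y2z] at hx1 hx2
  have x1z : dl g1 g2 g3 * x1 = 0 := by rw [hx1]; ring
  have x2z : dl g1 g2 g3 * x2 = 0 := by rw [hx2]; ring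
  exact ⟨(mul_eq_zero.1 x1z).resolve_left hd, (mul_eq_zero.1 x2z).resolve_left hd, y1z, y2z⟩

end Cfsg.Agent.H9.O5
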