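import Cfsg.Agent.H9.O5.CaseA
import Cfsg.Agent.H9.O5.Fs

/-!
# S3938, `PΩ⁺₈(5)`: two planes with trivial intersection (helper9)
-/

set_option autoImplicit false
set_option linter.unusedSectionVars false
set_option linter.unusedSimpArgs false

namespace Cfsg.Agent.H9.O5

open Module QuadraticMap

variable {F V : Type*} [Field F] [AddCommGroup V] [Module F V] {Q : QuadraticForm F V}

theorem exists_norm_one (hF : Nat.card F = 5) {D : F} (hD : D ≠ 0) : ∃ p q : F, D * (p * p + 4 * p * q + q * q) = 1 := by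
  obtain ⟨e⟩ := exists_e hF
  have h1 : e D ≠ 0 := by rwa [ne_eq, map_eq_zero_iff e e.injective]
  obtain ⟨p, q, h2⟩ := (by decide : ∀ D : ZMod 5, D ≠ 0 → ∃ p q : ZMod 5, D * (p * p + 4 * p * q + q * q) = 1) _ h1
  refine ⟨e.symm p, e.symm q, e.injective ?_⟩
  simp only [map_add, map_mul, map_ofNat, map_one, e.apply_symm_apply]
  exact h2

section li

variable {A : V ≃ₗ[F] V} {P : Submodule F V}

/-- a change of basis -/
theorem li_change {u v : V} (h : LinearIndependent F ![u, v]) {a b c d : F} (hd : a * d - b * c ≠ 0) :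
    LinearIndependent F ![a • u + b • v, c • u + d • v] := by
  rw [LinearIndependent.pair_iff] at h ⊢
  intro x y hxy
  have h1 := h (x * a + y * c) (x * b + y * d) (by rw [← hxy]; module)
  have hx : (a * d - b * c) * x = 0 := by linear_combination d * h1.1 - c * h1.2
  have hy : (a * d - b * c) * y = 0 := by linear_combination a * h1.2 - b * h1.1
  exact ⟨(mul_eq_zero.1 hx).resolve_left hd, (mul_eq_zero.1 hy).resolve_left hd⟩

end li

section main

variable [FiniteDimensional F V] {X : V ≃ₗ[F] V} {W U : Submodule F V} (h : Dt Q X W U) {A : V ≃ₗ[F] V}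
  {P : Submodule F V} (a : Rot3 Q A P)
include h a

/-- the basis -/
theorem exists_bas (hPW : ∀ v ∈ P, v ∈ W → v = 0) : ∃ e₁ ∈ P, ∃ e₂ ∈ P, LinearIndependent F ![e₁, e₂] ∧
    ∃ g₁ ∈ W, ∃ g₂ ∈ W, ∃ f₁ ∈ U, ∃ f₂ ∈ U, e₁ = g₁ + f₁ ∧ e₂ = g₂ + f₂ ∧ LinearIndependent F ![f₁, f₂] ∧
    ∃ G₁ G₂ G₃ b1 b2 b3 : F, polar Q e₁ e₁ = G₁ ∧ polar Q e₁ e₂ = G₂ ∧ polar Q e₂ e₂ = G₃ ∧
      polar Q f₁ f₁ = 3 * (b1 + b2 + b3) ∧ polar Q f₂ f₂ = 3 * (b1 + b2 + b3) ∧ polar Q f₁ f₂ = b1 ∧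
      ¬ (b1 = 0 ∧ b2 = 0 ∧ b3 = 0) ∧
      polar Q g₁ g₁ = G₁ - 3 * (b1 + b2 + b3) ∧ polar Q g₂ g₂ = G₃ - 3 * (b1 + b2 + b3) ∧ polar Q g₁ g₂ = G₂ - b1 ∧
      ¬ (G₁ - 3 * (b1 + b2 + b3) + b2 = 0 ∧ G₂ - b1 + b3 = 0 ∧ G₂ = 0 ∧ G₃ - 3 * (b1 + b2 + b3) + b2 = 0) ∧
      dl G₁ G₂ G₃ ≠ 0 ∧
      dk G₁ G₂ G₃ (G₁ - 3 * (b1 + b2 + b3) + b2) (G₂ - b1 + b3) G₂ (G₃ - 3 * (b1 + b2 + b3) + b2) ≠ 0 := by
  have hP : P ≠ ⊥ := by
    intro h1
    have := a.dim
    rw [h1, finrank_bot] at this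
    omega
  obtain ⟨z, hz, hz0⟩ := (Submodule.ne_bot_iff _).1 hP
  obtain ⟨p, q, hpq⟩ := exists_norm_one h.card (D := polar Q z z) fun h1 => hz0 (a.aniso hz h1)
  obtain ⟨u₁, hu₁⟩ : ∃ u, u = p • z + q • A z := ⟨_, rfl⟩
  have m1 : u₁ ∈ P := by
    rw [hu₁]
    exact P.add_mem (P.smul_mem _ hz) (P.smul_mem _ (a.inv z hz))
  have n11 : polar Q u₁ u₁ = 1 := by
    rw [← hpq, hu₁]
    simp only [polar_add_left, polar_add_right, polar_smul_left, polar_smul_right, smul_eq_mul, a.pi,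
      polar_comm Q (A z) z, a.two hz]
    ring
  have n0 : u₁ ≠ 0 := by
    intro h1
    rw [h1, polar_zero_left] at n11
    exact one_ne_zero n11.symm
  obtain ⟨u₂, hu₂⟩ : ∃ u, u = A u₁ := ⟨_, rfl⟩
  have m2 : u₂ ∈ P := hu₂ ▸ a.inv _ m1
  have n12 : polar Q u₁ u₂ = 2 := by rw [hu₂, a.two m1, n11, mul_one]
  have n22 : polar Q u₂ u₂ = 1 := by rw [hu₂, a.pi, n11]
  have lu : LinearIndependent F ![u₁, u₂] := hu₂ ▸ a.li m1 n0
  have dec : ∀ v : V, ∃ w ∈ W, ∃ u ∈ U, v = w + u := by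
    intro v
    have h1 : v ∈ W ⊔ U := by rw [h.compl.sup_eq_top]; trivial
    obtain ⟨w, hw, u, hu, e⟩ := Submodule.mem_sup.1 h1
    exact ⟨w, hw, u, hu, e.symm⟩
  obtain ⟨w₁, hw₁, v₁, hv₁, d1⟩ := dec u₁
  obtain ⟨w₂, hw₂, v₂, hv₂, d2⟩ := dec u₂
  have p1 : ∀ {w v}, w ∈ W → v ∈ U → polar Q w v = 0 := fun {w v} hw hv => h.perp w hw v hv
  have p2 : ∀ {w v}, w ∈ W → v ∈ U → polar Q v w = 0 := fun {w v} hw hv => by rw [polar_comm, h.perp w hw v hv]
  have ww : ∀ {g g' f f' : V}, g ∈ W → g' ∈ W → f ∈ U → f' ∈ U →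
      polar Q (g + f) (g' + f') = polar Q g g' + polar Q f f' := by
    intro g g' f f' hg hg' hf hf'
    rw [polar_add_left, polar_add_right, polar_add_right, p1 hg hf', p2 hg' hf, add_zero, zero_add]
  have q11 : polar Q w₁ w₁ = 1 - polar Q v₁ v₁ := by
    rw [d1, ww hw₁ hw₁ hv₁ hv₁] at n11
    linear_combination n11
  have q12 : polar Q w₁ w₂ = 2 - polar Q v₁ v₂ := by
    rw [d1, d2, ww hw₁ hw₂ hv₁ hv₂] at n12
    linear_combination n12
  have q22 : polar Q w₂ w₂ = 1 - polar Q v₂ v₂ := by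
    rw [d2, ww hw₂ hw₂ hv₂ hv₂] at n22
    linear_combination n22
  have bil : ∀ (s t : V) (a b c d : F), polar Q (a • s + b • t) (c • s + d • t) =
      a * c * polar Q s s + (a * d + b * c) * polar Q s t + b * d * polar Q t t := by
    intro s t a b c d
    simp only [polar_add_left, polar_add_right, polar_smul_left, polar_smul_right, smul_eq_mul, polar_comm Q t s]
    ring
  obtain ⟨a', b', c', d', b1, b2, b3, hw⟩ := exists_fw h.card (polar Q v₁ v₁) (polar Q v₁ v₂) (polar Q v₂ v₂) (by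
    intro x y hxy
    rw [← q11, ← q12, ← q22] at hxy ⊢
    have h1 : polar Q (x • w₁ + y • w₂) (x • w₁ + y • w₂) = 0 := by
      rw [bil, ← hxy]
      ring
    have h2 : x • w₁ + y • w₂ = 0 := by
      apply h.aniso _ (W.add_mem (W.smul_mem _ hw₁) (W.smul_mem _ hw₂))
      rw [polar_self, nsmul_eq_mul, Nat.cast_ofNat] at h1
      exact (mul_eq_zero.1 h1).resolve_left (two_ne h.card)
    constructor
    · have h3 := congrArg (fun s => polar Q w₁ s) h2
      simp only [polar_add_right, polar_smul_right, smul_eq_mul, polar_zero_right] at h3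
      exact h3
    · have h3 := congrArg (fun s => polar Q w₂ s) h2
      simp only [polar_add_right, polar_smul_right, smul_eq_mul, polar_zero_right, polar_comm Q w₂ w₁] at h3
      exact h3)
  have G1 : polar Q (a' • u₁ + b' • u₂) (a' • u₁ + b' • u₂) = g11 a' b' := by
    rw [bil, n11, n12, n22, g11]; ring
  have G2 : polar Q (a' • u₁ + b' • u₂) (c' • u₁ + d' • u₂) = g12 a' b' c' d' := by
    rw [bil, n11, n12, n22, g12]; ring
  have G3 : polar Q (c' • u₁ + d' • u₂) (c' • u₁ + d' • u₂) = g11 c' d' := by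
    rw [bil, n11, n12, n22, g11]; ring
  have F1 : polar Q (a' • v₁ + b' • v₂) (a' • v₁ + b' • v₂) = 3 * (b1 + b2 + b3) := by
    have := hw.e11
    rw [b0] at this
    rw [bil, ← this]; ring
  have F2 : polar Q (a' • v₁ + b' • v₂) (c' • v₁ + d' • v₂) = b1 := by
    rw [bil, ← hw.e12]
  have F3 : polar Q (c' • v₁ + d' • v₂) (c' • v₁ + d' • v₂) = 3 * (b1 + b2 + b3) := by
    have := hw.e22
    rw [b0] at this
    rw [bil, ← this]; ring
  have hcn := hw.cn
  have hkn := hw.kn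
  rw [b0] at hcn hkn
  have le := li_change lu hw.li
  have E1 : a' • u₁ + b' • u₂ = (a' • w₁ + b' • w₂) + (a' • v₁ + b' • v₂) := by rw [d1, d2]; module
  have E2 : c' • u₁ + d' • u₂ = (c' • w₁ + d' • w₂) + (c' • v₁ + d' • v₂) := by rw [d1, d2]; module
  have mW : ∀ x y : F, x • w₁ + y • w₂ ∈ W := fun x y => W.add_mem (W.smul_mem _ hw₁) (W.smul_mem _ hw₂)
  have mU : ∀ x y : F, x • v₁ + y • v₂ ∈ U := fun x y => U.add_mem (U.smul_mem _ hv₁) (U.smul_mem _ hv₂)
  have mP : ∀ x y : F, x • u₁ + y • u₂ ∈ P := fun x y => P.add_mem (P.smul_mem _ m1) (P.smul_mem _ m2)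
  refine ⟨_, mP a' b', _, mP c' d', le, _, mW a' b', _, mW c' d', _, mU a' b', _, mU c' d', E1, E2, ?_,
    _, _, _, b1, b2, b3, G1, G2, G3, F1, F3, F2, hw.ne, ?_, ?_, ?_, hcn, hw.dn, hkn⟩
  · rw [LinearIndependent.pair_iff]
    intro x y hxy
    have h1 : x • (a' • u₁ + b' • u₂) + y • (c' • u₁ + d' • u₂) = 0 := by
      apply hPW
      · exact P.add_mem (P.smul_mem _ (mP _ _)) (P.smul_mem _ (mP _ _))
      · have h2 : x • (a' • u₁ + b' • u₂) + y • (c' • u₁ + d' • u₂) =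
            x • (a' • w₁ + b' • w₂) + y • (c' • w₁ + d' • w₂) +
              (x • (a' • v₁ + b' • v₂) + y • (c' • v₁ + d' • v₂)) := by
          rw [E1, E2]
          module
        rw [h2, hxy, add_zero]
        exact W.add_mem (W.smul_mem _ (mW _ _)) (W.smul_mem _ (mW _ _))
    exact LinearIndependent.pair_iff.1 le x y h1
  · have h1 := G1
    rw [E1, ww (mW _ _) (mW _ _) (mU _ _) (mU _ _), F1] at h1
    linear_combination h1
  · have h1 := G3
    rw [E2, ww (mW _ _) (mW _ _) (mU _ _) (mU _ _), F3] at h1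
    linear_combination h1
  · have h1 := G2
    rw [E1, E2, ww (mW _ _) (mW _ _) (mU _ _) (mU _ _), F2] at h1
    linear_combination h1

/-- **Case B** -/
theorem caseB (hV : 5 ≤ finrank F V) (hPW : ∀ v ∈ P, v ∈ W → v = 0) :
    ∃ R : V ≃ₗ[F] V, (∀ v, Q (R v) = Q v) ∧ (∀ w ∈ W, R w = w) ∧ ∀ X' : V ≃ₗ[F] V, X' = (R.symm.trans X).trans R →
      NoJ A X' ∧ ¬ Rel2 A X' := by
  obtain ⟨e₁, he₁, e₂, he₂, le, g₁, hg₁, g₂, hg₂, f₁, hf₁, f₂, hf₂, E1, E2, lf, G₁, G₂, G₃, b1, b2, b3, k1, k2, k3,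
    i1, i2, i3, hb, j1, j2, j3, hcn, hd, hk⟩ := exists_bas h a hPW
  obtain ⟨R, hR, hRW, hRX⟩ := h.exists_conj_two hf₁ hf₂ lf hb i1 i2 i3
  refine ⟨R, hR, hRW, fun X' hX' => ?_⟩
  obtain ⟨x1, x2, x3⟩ := hRX X' hX'
  have hc := h.conj hR hRW
  rw [← hX'] at hc
  have p1 : ∀ {w v}, w ∈ W → v ∈ U → polar Q w v = 0 := fun {w v} hw hv => h.perp w hw v hv
  have p2 : ∀ {w v}, w ∈ W → v ∈ U → polar Q v w = 0 := fun {w v} hw hv => by rw [polar_comm, h.perp w hw v hv]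
  have ww : ∀ {g g' f f' : V}, g ∈ W → g' ∈ W → f ∈ U → f' ∈ U →
      polar Q (g + f) (g' + f') = polar Q g g' + polar Q f f' := by
    intro g g' f f' hg hg' hf hf'
    rw [polar_add_left, polar_add_right, polar_add_right, p1 hg hf', p2 hg' hf, add_zero, zero_add]
  refine ⟨?_, ?_⟩
  · -- no `J`
    intro J c d sq irr hJX hJA
    have hJW : ∀ w ∈ W, J w ∈ W := fun w hw => hc.J_W hJX hw
    -- `J` is a similitude? not needed: `J U ≤ U` as `U` is the sum of the images of `X' - 1`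
    have hJU : ∀ u ∈ U, J u ∈ U := by
      intro u hu
      obtain ⟨w, hw, u', hu', e⟩ : ∃ w ∈ W, ∃ u' ∈ U, J u = w + u' := by
        have h1 : J u ∈ W ⊔ U := by rw [h.compl.sup_eq_top]; trivial
        obtain ⟨w, hw, u', hu', e⟩ := Submodule.mem_sup.1 h1
        exact ⟨w, hw, u', hu', e.symm⟩
      have h1 := congrArg J (hc.sum u hu)
      simp only [map_add, map_zero, hJX] at h1
      rw [e] at h1
      simp only [map_add, hc.XW w hw] at h1
      have h2 := hc.sum u' hu'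
      have h3 : w + w + w + w + w + w + w = 0 := by
        have : w + w + w + w + w + w + w = (w + u' + (w + X' u') + (w + X' (X' u')) + (w + X' (X' (X' u'))) +
          (w + X' (X' (X' (X' u')))) + (w + X' (X' (X' (X' (X' u'))))) + (w + X' (X' (X' (X' (X' (X' u'))))))) -
          (u' + X' u' + X' (X' u') + X' (X' (X' u')) + X' (X' (X' (X' u'))) + X' (X' (X' (X' (X' u')))) +
            X' (X' (X' (X' (X' (X' u')))))) := by abel
        rw [this, h1, h2, sub_zero]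
      have h4 : (2 : F) • w = 0 := by
        have : (2 : F) • w = (w + w + w + w + w + w + w) - (5 : F) • w := by module
        rw [this, h3, five_zero h.card]
        simp
      have h5 := (smul_eq_zero.1 h4).resolve_left (two_ne h.card)
      rw [e, h5, zero_add]
      exact hu'
    obtain ⟨x, y, hxy⟩ := a.span he₁ he₂ le (a.comm hJA he₁)
    obtain ⟨x', y', hxy'⟩ := a.span he₁ he₂ le (a.comm hJA he₂)
    have comp : ∀ {f g : V} {x y : F}, g ∈ W → f ∈ U → J (g + f) = x • e₁ + y • e₂ → J f = x • f₁ + y • f₂ := by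
      intro f g x y hg hf hh
      rw [E1, E2, map_add] at hh
      have h1 : J f - (x • f₁ + y • f₂) = (x • g₁ + y • g₂) - J g := by
        have : J f = x • (g₁ + f₁) + y • (g₂ + f₂) - J g := by rw [← hh]; abel
        rw [this]
        module
      have h2 : J f - (x • f₁ + y • f₂) ∈ U :=
        U.sub_mem (hJU f hf) (U.add_mem (U.smul_mem _ hf₁) (U.smul_mem _ hf₂))
      have h3 : J f - (x • f₁ + y • f₂) ∈ W := by
        rw [h1]
        exact W.sub_mem (W.add_mem (W.smul_mem _ hg₁) (W.smul_mem _ hg₂)) (hJW g hg)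
      have h4 := h.compl.inf_eq_bot
      have h5 : J f - (x • f₁ + y • f₂) ∈ W ⊓ U := ⟨h3, h2⟩
      rw [h4, Submodule.mem_bot] at h5
      exact sub_eq_zero.1 h5
    have J1 : J f₁ = x • f₁ + y • f₂ := comp hg₁ hf₁ (by rw [← E1]; exact hxy)
    have J2 : J f₂ = x' • f₁ + y' • f₂ := comp hg₂ hf₂ (by rw [← E2]; exact hxy')
    have f10 : f₁ ≠ 0 := by
      have := lf.ne_zero 0
      exact this
    have hy : y ≠ 0 := by
      rintro rfl
      apply J_eig sq irr f10 x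
      rw [J1, zero_smul, add_zero]
    -- `X' f₂`
    have h1 : X' f₂ = (y⁻¹ * x') • f₁ + (y⁻¹ * (y' - x)) • f₂ := by
      have h2 : J f₂ = x • f₂ + y • X' f₂ := by
        conv_lhs => rw [← x1]
        rw [hJX, J1, map_add, map_smul, map_smul, x1]
      rw [J2] at h2
      have h3 : y • X' f₂ = x' • f₁ + (y' - x) • f₂ := by
        have : y • X' f₂ = x' • f₁ + y' • f₂ - x • f₂ := by rw [h2]; abel
        rw [this]
        module
      have h4 : X' f₂ = y⁻¹ • y • X' f₂ := by rw [smul_smul, inv_mul_cancel₀ hy, one_smul]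
      rw [h4, h3]
      module
    have h2 := hc.irr (Submodule.span F {f₁, f₂}) (by
      rw [Submodule.span_le]
      rintro v (rfl | hv)
      · exact hf₁
      · rw [Set.mem_singleton_iff.1 hv]
        exact hf₂) (by
      intro v hv
      obtain ⟨s, s', rfl⟩ := Submodule.mem_span_pair.1 hv
      rw [map_add, map_smul, map_smul, x1, h1, Submodule.mem_span_pair]
      exact ⟨s' * (y⁻¹ * x'), s + s' * (y⁻¹ * (y' - x)), by module⟩) (by
      have h3 := finrank_span_eq_card lf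
      rw [Matrix.range_cons, Matrix.range_cons, Matrix.range_empty, Set.union_empty, Set.singleton_union,
        Fintype.card_fin] at h3
      rw [h3]
      norm_num)
    have h3 : f₁ ∈ Submodule.span F {f₁, f₂} := Submodule.subset_span (by simp)
    rw [h2, Submodule.mem_bot] at h3
    exact f10 h3
  · -- the relations
    obtain ⟨Y, hY⟩ : ∃ Y, Y = X' ^ 2 := ⟨_, rfl⟩
    have hYv : ∀ v, Y v = X' (X' v) := fun v => by rw [hY, pow_two, LinearEquiv.mul_apply]
    have hYi : ∀ v, Q (Y v) = Q v := fun v => by rw [hYv, hc.iso, hc.iso]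
    have hYp : ∀ v w, polar Q (Y v) (Y w) = polar Q v w := fun v w => by rw [hYv, hYv, hc.pi, hc.pi]
    have hYW : ∀ w ∈ W, Y w = w := fun w hw => by rw [hYv, hc.XW w hw, hc.XW w hw]
    have hYU : ∀ w ∈ U, Y w ∈ U := fun w hw => by rw [hYv]; exact hc.XU _ (hc.XU _ hw)
    have b := a.conj hYi
    -- the Gram matrix
    have c11 : polar Q e₁ (Y e₁) = G₁ - 3 * (b1 + b2 + b3) + b2 := by
      rw [E1, map_add, hYW g₁ hg₁, ww hg₁ hg₁ hf₁ (hYU _ hf₁), j1, hYv, x2]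
    have c12 : polar Q e₁ (Y e₂) = G₂ - b1 + b3 := by
      rw [E1, E2, map_add, hYW g₂ hg₂, ww hg₁ hg₂ hf₁ (hYU _ hf₂), j3, hYv, ← x1, x3]
    have c21 : polar Q e₂ (Y e₁) = G₂ := by
      rw [E1, E2, map_add, hYW g₁ hg₁, ww hg₂ hg₁ hf₂ (hYU _ hf₁), polar_comm Q g₂ g₁, j3, hYv, x1]
      have : polar Q f₂ (X' f₂) = b1 := by
        conv_lhs => rw [← x1]
        rw [hc.pi, x1, i3]
      rw [this]
      ring
    have c22 : polar Q e₂ (Y e₂) = G₃ - 3 * (b1 + b2 + b3) + b2 := by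
      rw [E2, map_add, hYW g₂ hg₂, ww hg₂ hg₂ hf₂ (hYU _ hf₂), j2, hYv]
      have : polar Q f₂ (X' (X' f₂)) = b2 := by
        conv_lhs => rw [← x1]
        rw [hc.pi, x2]
      rw [this]
    have d11 : polar Q (Y e₁) (Y e₁) = G₁ := by rw [hYp, k1]
    have d12 : polar Q (Y e₁) (Y e₂) = G₂ := by rw [hYp, k2]
    have d22 : polar Q (Y e₂) (Y e₂) = G₃ := by rw [hYp, k3]
    -- coordinates
    have sp : ∀ v ∈ P, ∃ x y : F, v = x • e₁ + y • e₂ := fun v hv => a.span he₁ he₂ le hv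
    have sp' : ∀ v ∈ P.map (Y : V →ₗ[F] V), ∃ x y : F, v = x • Y e₁ + y • Y e₂ := by
      rintro _ ⟨v, hv, rfl⟩
      obtain ⟨x, y, rfl⟩ := sp v hv
      exact ⟨x, y, by change Y _ = _; rw [map_add, map_smul, map_smul]⟩
    have me₁ : Y e₁ ∈ P.map (Y : V →ₗ[F] V) := ⟨e₁, he₁, rfl⟩
    have me₂ : Y e₂ ∈ P.map (Y : V →ₗ[F] V) := ⟨e₂, he₂, rfl⟩
    have sol : ∀ x y z t : F, (∀ u ∈ P, polar Q u (x • e₁ + y • e₂ + (z • Y e₁ + t • Y e₂)) = 0) →
        (∀ u ∈ P.map (Y : V →ₗ[F] V), polar Q u (x • e₁ + y • e₂ + (z • Y e₁ + t • Y e₂)) = 0) →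
        x = 0 ∧ y = 0 ∧ z = 0 ∧ t = 0 := by
      intro x y z t o1 o2
      have q1 := o1 e₁ he₁
      have q2 := o1 e₂ he₂
      have q3 := o2 _ me₁
      have q4 := o2 _ me₂
      simp only [polar_add_right, polar_smul_right, smul_eq_mul] at q1 q2 q3 q4
      rw [k1, k2, c11, c12] at q1
      rw [polar_comm Q e₂ e₁, k2, k3, c21, c22] at q2
      rw [polar_comm Q (Y e₁) e₁, c11, polar_comm Q (Y e₁) e₂, c21, d11, d12] at q3
      rw [polar_comm Q (Y e₂) e₁, c12, polar_comm Q (Y e₂) e₂, c22, polar_comm Q (Y e₂) (Y e₁), d12, d22] at q4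
      apply solve4 hd hk
      · linear_combination q1
      · linear_combination q2
      · linear_combination q3
      · linear_combination q4
    have n1 : ∀ v ∈ P, v ∈ P.map (Y : V →ₗ[F] V) → v = 0 := by
      intro v hv hv'
      obtain ⟨x, y, e⟩ := sp v hv
      obtain ⟨z, t, e'⟩ := sp' v hv'
      have h0 : x • e₁ + y • e₂ + ((-z) • Y e₁ + (-t) • Y e₂) = 0 := by
        have : x • e₁ + y • e₂ + ((-z) • Y e₁ + (-t) • Y e₂) = (x • e₁ + y • e₂) - (z • Y e₁ + t • Y e₂) := by module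
        rw [this, ← e, ← e', sub_self]
      obtain ⟨s1, s2, -, -⟩ := sol x y (-z) (-t) (by intro u _; rw [h0, polar_zero_right])
        (by intro u _; rw [h0, polar_zero_right])
      rw [e, s1, s2]
      simp
    have n2 : ∀ v ∈ P, ∀ v' ∈ P.map (Y : V →ₗ[F] V), (∀ u ∈ P, polar Q u (v + v') = 0) →
        (∀ u ∈ P.map (Y : V →ₗ[F] V), polar Q u (v + v') = 0) → v + v' = 0 := by
      intro v hv v' hv' o1 o2
      obtain ⟨x, y, e⟩ := sp v hv
      obtain ⟨z, t, e'⟩ := sp' v' hv'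
      rw [e, e'] at o1 o2 ⊢
      obtain ⟨s1, s2, s3, s4⟩ := sol x y z t o1 o2
      rw [s1, s2, s3, s4]
      simp
    have n3 : ∃ v ∈ P, ∃ v' ∈ P.map (Y : V →ₗ[F] V), polar Q v v' ≠ 0 := by
      by_contra hcon
      push Not at hcon
      apply hcn
      refine ⟨?_, ?_, ?_, ?_⟩
      · rw [← c11]; exact hcon _ he₁ _ me₁
      · rw [← c12]; exact hcon _ he₁ _ me₂
      · rw [← c21]; exact hcon _ he₂ _ me₁
      · rw [← c22]; exact hcon _ he₂ _ me₂
    have h0 : ∃ v ∈ P.map (Y : V →ₗ[F] V), v ≠ 0 := by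
      refine ⟨_, me₁, ?_⟩
      intro h1
      exact le.ne_zero 0 ((map_eq_zero_iff Y Y.injective).1 h1)
    -- a common fixed vector
    obtain ⟨z, hz0, zA, zB⟩ : ∃ z : V, z ≠ 0 ∧ A z = z ∧ (Y * A * Y⁻¹) z = z := by
      let L : V →ₗ[F] (F × F) × (F × F) :=
        ((polarBilin Q e₁).prod (polarBilin Q e₂)).prod ((polarBilin Q (Y e₁)).prod (polarBilin Q (Y e₂)))
      have hker : LinearMap.ker L ≠ ⊥ := by
        apply LinearMap.ker_ne_bot_of_finrank_lt
        simp only [Module.finrank_prod, Module.finrank_self]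
        omega
      obtain ⟨z, hz, hz0⟩ := (Submodule.ne_bot_iff _).1 hker
      have hz' : L z = 0 := hz
      have z1 : polar Q e₁ z = 0 := congrArg (fun s => s.1.1) hz'
      have z2 : polar Q e₂ z = 0 := congrArg (fun s => s.1.2) hz'
      have z3 : polar Q (Y e₁) z = 0 := congrArg (fun s => s.2.1) hz'
      have z4 : polar Q (Y e₂) z = 0 := congrArg (fun s => s.2.2) hz'
      refine ⟨z, hz0, a.fix z ?_, b.fix z ?_⟩
      · intro u hu
        obtain ⟨x, y, rfl⟩ := sp u hu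
        rw [polar_add_left, polar_smul_left, polar_smul_left, z1, z2]
        simp
      · intro u hu
        obtain ⟨x, y, rfl⟩ := sp' u hu
        rw [polar_add_left, polar_smul_left, polar_smul_left, z3, z4]
        simp
    have zB' : (Y * A * Y⁻¹)⁻¹ z = z := by
      change (Y * A * Y⁻¹).symm z = z
      rw [LinearEquiv.symm_apply_eq, zB]
    have one : ∀ {S : V ≃ₗ[F] V}, Sc S → S z = z → ∀ v, S v = v := by
      rintro S ⟨e, he⟩ hS v
      have h1 : (e - 1) • z = 0 := by rw [sub_smul, one_smul, ← he, hS, sub_self]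
      have h2 : e = 1 := sub_eq_zero.1 ((smul_eq_zero.1 h1).resolve_right hz0)
      rw [he, h2, one_smul]
    have hpow : ∀ {S : V ≃ₗ[F] V}, S z = z → ∀ n : ℕ, (S ^ n) z = z := by
      intro S hS n
      induction n with
      | zero => rfl
      | succ n ih => rw [pow_succ, LinearEquiv.mul_apply, hS, ih]
    have zS : (A * (Y * A * Y⁻¹)) z = z := by rw [LinearEquiv.mul_apply, zB, zA]
    have zS' : (A * (Y * A * Y⁻¹)⁻¹) z = z := by rw [LinearEquiv.mul_apply, zB', zA]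
    rw [Rel2, ← hY]
    rintro (h1 | h1 | h1 | h1)
    · exact pair_comm a b n1 n2 n3 (h1.eq h.card b.cube)
    · exact pair_five a b n1 n2 h0 fun v => one h1 (hpow zS 5) v
    · exact pair_sq a b n1 n2 h0 fun v => one h1 (hpow zS 2) v
    · exact pair_sq a b.symm n1 n2 h0 fun v => one h1 (hpow zS' 2) v

/-- **the linear core** -/
theorem geo {T : V ≃ₗ[F] V} (hV : 5 ≤ finrank F V) (t : Rot3 Q T W) (hne : P ≠ W) :
    ∃ R : V ≃ₗ[F] V, (∀ v, Q (R v) = Q v) ∧ (∀ w ∈ W, R w = w) ∧ ∀ X' : V ≃ₗ[F] V, X' = (R.symm.trans X).trans R →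
      NoJ A X' ∧ ¬ (Rel1 A T X' ∧ Rel2 A X') := by
  by_cases hPW : ∀ v ∈ P, v ∈ W → v = 0
  · obtain ⟨R, h1, h2, h3⟩ := caseB h a hV hPW
    exact ⟨R, h1, h2, fun X' hX' => ⟨(h3 X' hX').1, fun h4 => (h3 X' hX').2 h4.2⟩⟩
  · push Not at hPW
    obtain ⟨w, hw, hwW, h0⟩ := hPW
    obtain ⟨R, h1, h2, h3⟩ := caseA h a t hne hw hwW h0
    exact ⟨R, h1, h2, fun X' hX' => ⟨(h3 X' hX').1, fun h4 => (h3 X' hX').2 h4.1⟩⟩

end main

end Cfsg.Agent.H9.O5
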