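import Cfsg.Agent.H466.O8S.Wit
import Cfsg.Agent.H424.Spr.O8.Hh

/-!
# S3938, `PΩ⁺₈(5)`: the element of order 7 as a power of an element of order 63 (helper9)
-/

set_option autoImplicit false
set_option linter.unusedSectionVars false

namespace Cfsg.Agent.H9.O5

open Module QuadraticMap Cfsg Cfsg.Geo
open Cfsg.Agent.H951 (fx cm mem_fx mem_cm)
open Cfsg.Agent.H884.El (lin)
open Cfsg.Agent.H708.O8 (I8 T8)
open Cfsg.Agent.H823.O8S (Wit Two Fld)
open Cfsg.Agent.H424.O8L (l_pow l_mul l_one l_ext)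
open scoped MatrixGroups Matrix

variable {F : Type} [Field F] [Fintype F]

theorem fin_dim (X : Module.End F (I8 → F)) (h : IsCompl (fx X) (cm X)) :
    finrank F (fx X) + finrank F (cm X) = 8 := by
  have h1 := Submodule.finrank_add_eq_of_isCompl h
  rw [Module.finrank_fintype_fun_eq_card] at h1
  rw [h1]
  simp

theorem exists_wit7 (hF : Nat.card F = 5) : ∃ (x₀ t : GL I8 F) (J J' : Module.End F (I8 → F)) (c d : F),
    Wit (x₀ ^ 9) t 7 ∧ Two (x₀ ^ 9) t J J' c d ∧ x₀ ∈ omegaGL (quadFormPlus 4 F) ∧ orderOf x₀ = 63 ∧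
      (∀ v, J (lin x₀ v) = lin x₀ (J v)) ∧ (∀ v, J' (lin x₀ v) = lin x₀ (J' v)) ∧
      fx (lin x₀) = fx (lin (x₀ ^ 9)) := by
  obtain ⟨x₀, t, J, J', c, d, w, f⟩ := H466.O8S.exists_wit_core (F := F) (p := 5) (a := 1) (r := 63) (k := 1)
    (by rw [hF]; norm_num) (by norm_num) (by decide) (by norm_num) (by norm_num)
  rw [pow_one] at w
  have hord := w.x_ord
  have hp0 : (lin x₀) ^ 63 = 1 := by
    rw [← l_pow, ← hord, pow_orderOf_eq_one]
    exact LinearMap.ext fun v => l_one v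
  have hp1 : (lin (x₀ ^ 9)) ^ 7 = 1 := by
    rw [l_pow, ← pow_mul]
    exact hp0
  have k0 : ((63 : ℕ) : F) ≠ 0 := H383.Cov.coprime_ne_zero (by rw [hF]; norm_num)
  have k1 : ((7 : ℕ) : F) ≠ 0 := H383.Cov.coprime_ne_zero (by rw [hF]; norm_num)
  have c0 : IsCompl (fx (lin x₀)) (cm (lin x₀)) := H951.isCompl_fx_cm k0 hp0
  have c1 : IsCompl (fx (lin (x₀ ^ 9))) (cm (lin (x₀ ^ 9))) := H951.isCompl_fx_cm k1 hp1
  have d0 := fin_dim _ c0
  have d1 := fin_dim _ c1
  rw [w.x_dim] at d0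
  have fle : fx (lin x₀) ≤ fx (lin (x₀ ^ 9)) := by
    intro v hv
    rw [mem_fx] at hv ⊢
    rw [l_pow]
    have : ∀ n : ℕ, ((lin x₀) ^ n) v = v := by
      intro n
      induction n with
      | zero => rfl
      | succ n ih => rw [pow_succ, Module.End.mul_apply, hv, ih]
    exact this 9
  have cle : cm (lin (x₀ ^ 9)) ≤ cm (lin x₀) := by
    rintro _ ⟨v, rfl⟩
    have : (lin (x₀ ^ 9) - 1 : Module.End F (I8 → F)) = (lin x₀ - 1) * ∑ i ∈ Finset.range 9, (lin x₀) ^ i := by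
      rw [l_pow]
      exact (mul_geom_sum (lin x₀) 9).symm
    rw [this, Module.End.mul_apply]
    exact ⟨_, rfl⟩
  have h6 : finrank F (cm (lin (x₀ ^ 9))) = 6 := by
    have h1 := Submodule.finrank_mono cle
    rw [w.x_dim] at h1
    by_contra h2
    have h3 : finrank F (cm (lin (x₀ ^ 9))) < 6 := lt_of_le_of_ne h1 h2
    have h4 : ∀ v ∈ cm (lin (x₀ ^ 9)), v = 0 := by
      intro v hv
      have h5 : lin (x₀ ^ 9) v = v := by
        refine H383.Cov.fix_of_lt (M := 7) (k := 6) hp1 (by rw [hF]; norm_num) ?_ ?_ h3 hv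
        · intro i hi hi6
          rw [hF]
          interval_cases i <;> norm_num
        · rintro _ ⟨u, rfl⟩
          refine ⟨lin (x₀ ^ 9) u, ?_⟩
          rw [LinearMap.sub_apply, LinearMap.sub_apply, map_sub]
          rfl
      have h6 : v ∈ fx (lin (x₀ ^ 9)) ⊓ cm (lin (x₀ ^ 9)) := ⟨mem_fx.2 h5, hv⟩
      rw [c1.inf_eq_bot] at h6
      exact (Submodule.mem_bot F).1 h6
    have h5 : x₀ ^ 9 = 1 := by
      apply l_ext
      intro v
      rw [l_one]
      exact sub_eq_zero.1 (h4 _ (mem_cm.2 ⟨v, rfl⟩))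
    have h6 := orderOf_dvd_of_pow_eq_one h5
    rw [hord] at h6
    norm_num at h6
  have ceq : cm (lin (x₀ ^ 9)) = cm (lin x₀) := Submodule.eq_of_le_of_finrank_eq cle (by rw [h6, w.x_dim])
  have feq : fx (lin x₀) = fx (lin (x₀ ^ 9)) := Submodule.eq_of_le_of_finrank_eq fle (by omega)
  have cJ : ∀ v, J (lin x₀ v) = lin x₀ (J v) := fun v => congrArg (fun T : Module.End F (I8 → F) => T v) f.cx
  have cJ' : ∀ v, J' (lin x₀ v) = lin x₀ (J' v) := fun v => congrArg (fun T : Module.End F (I8 → F) => T v) f.cx'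
  refine ⟨x₀, t, J, J', c, d, ?_, ?_, w.x_mem, hord, cJ, cJ', feq⟩
  · refine ⟨Subgroup.pow_mem _ w.x_mem 9, w.t_mem, ?_, w.t_ord, ?_, h6, w.t_dim, ?_⟩
    · rw [orderOf_pow_of_dvd (by norm_num) (by rw [hord]; norm_num), hord]
    · exact ((show Commute x₀ t from w.comm).pow_left 9).eq
    · rw [← feq]
      exact w.le
  · refine ⟨f.fJ, f.fJ', ?_, f.ct, ?_, f.ct', ?_, ?_⟩
    · rw [l_pow]
      exact (show Commute J (lin x₀) from f.cx).pow_right 9
    · rw [l_pow]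
      exact (show Commute J' (lin x₀) from f.cx').pow_right 9
    · intro v hv
      exact f.agree v (cle hv)
    · intro v hv
      rw [← feq] at hv
      exact f.conj v hv

end Cfsg.Agent.H9.O5
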