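import Cfsg.Agent.H823.O8S.Main
import Cfsg.Agent.H9.O5.W7
import Cfsg.Agent.H9.O5.MidF
import Cfsg.Agent.H9.O5.Abs

/-!
# S3938-OPLUS8: `Spr (PΩ⁺₈(5))` from the theorem on the overgroups of `x t` (helper9)
-/

set_option autoImplicit false
set_option linter.unusedSectionVars false

namespace Cfsg.Agent.H9.O5

open Module QuadraticMap Cfsg Cfsg.Geo
open Cfsg.Agent.LieClassical.OrthTrans (Good)
open Cfsg.Agent.H951 (fx cm Inv mem_fx mem_cm)
open Cfsg.Agent.H884.El (lin pre)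
open Cfsg.Agent.H708.O8 (I8 T8)
open Cfsg.Agent.H823.O8S (Wit Two Fld U₁ U₂ NJ SW RW Base base_w conj_U₁ conj_U₂ mk8 gl8 mem_SW mem_NJ mk_mem_tp pre_of_mem
  order_mk)
open Cfsg.Agent.H424.Spr
open Cfsg.Agent.H424.O8L (Cf Fj Sm l_pow l_mul l_one l_ext l_inj l_finrank)
open scoped MatrixGroups Matrix Pointwise

variable {F : Type} [Field F] [Fintype F]

theorem pow5_mod (m : ℕ) : 5 ^ m % 7 = 5 ^ (m % 6) % 7 := by
  conv_lhs => rw [← Nat.div_add_mod m 6, pow_add, pow_mul, Nat.mul_mod, Nat.pow_mod]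
  norm_num

theorem prim5 : H436.Prim 5 6 7 := by
  refine ⟨by norm_num, fun m => ?_, by norm_num⟩
  have h1 := pow5_mod m
  have h2 : m % 6 < 6 := Nat.mod_lt _ (by norm_num)
  have h3 : 1 ≤ 5 ^ m := Nat.one_le_pow _ _ (by norm_num)
  generalize hr : m % 6 = r at h1 h2
  rw [Nat.dvd_iff_mod_eq_zero, Nat.dvd_iff_mod_eq_zero, hr]
  generalize 5 ^ m = n at h1 h3
  interval_cases r <;> simp only [pow_zero, pow_one, Nat.reducePow, Nat.reduceMod] at h1 <;> omega

theorem rw5 : RW 5 1 7 1 :=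
  { hp := by norm_num
    ha := le_rfl
    four := by norm_num
    prim := prim5
    dvd := by norm_num
    hk := le_rfl }

theorem fj_of {x t : GL I8 F} {J : Module.End F (I8 → F)} {c d : F} (f : Fld J c d) (cx : J * lin x = lin x * J)
    (ct : J * lin t = lin t * J) : Fj (LieClassical.OrthForms.plusForm 4 F) x t J c d where
  sq v := by
    have h := congrArg (fun T : Module.End F (I8 → F) => T v) f.sq
    exact h
  irr := f.irr
  sim v := f.sim v
  cx v := congrArg (fun T : Module.End F (I8 → F) => T v) cx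
  ct v := congrArg (fun T : Module.End F (I8 → F) => T v) ct

theorem cf_of {x t : GL I8 F} (hF : Nat.card F = 5) (w : Wit x t 7) (ht3 : orderOf t = 3) :
    Cf (LieClassical.OrthForms.plusForm 4 F) x t 7 := by
  have hpow : x ^ 7 = 1 := by
    rw [← w.x_ord]
    exact pow_orderOf_eq_one x
  have hcop : (7 : ℕ).Coprime (Nat.card F) := by rw [hF]; norm_num
  refine
    { good := LieClassical.OrthFinite.good_of_finite (LieClassical.OrthForms.nondeg_plusForm 4 F) (by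
        rw [Module.finrank_fintype_fun_eq_card]
        simp)
      four := by rw [hF]; norm_num
      dim := by simp
      odd := by decide
      cop := hcop
      cop' := ?_
      x_mem := w.x_mem
      t_mem := w.t_mem
      x_pow := hpow
      x_dim := w.x_dim
      t_fix := ?_
      t_ne := ?_ }
  · intro i hi hi6
    rw [hF]
    interval_cases i <;> norm_num
  · intro v hv
    have hco : ∀ v, lin t (lin x v) = lin x (lin t v) := by
      intro v
      rw [← l_mul, ← l_mul, w.comm]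
    have h1 : lin t v - v ∈ fx (lin x) := w.le (mem_cm.2 ⟨v, rfl⟩)
    have h2 : lin t v - v ∈ cm (lin x) := by
      obtain ⟨z, rfl⟩ := mem_cm.1 hv
      refine mem_cm.2 ⟨lin t z - z, ?_⟩
      rw [map_sub, map_sub, hco]
      abel
    have hx : (lin x) ^ 7 = 1 := by
      rw [← l_pow, hpow]
      exact LinearMap.ext fun v => l_one v
    have h3 := (H951.isCompl_fx_cm (H383.Cov.coprime_ne_zero (F := F) hcop) hx).inf_eq_bot
    have h4 : lin t v - v ∈ fx (lin x) ⊓ cm (lin x) := ⟨h1, h2⟩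
    rw [h3, Submodule.mem_bot] at h4
    exact sub_eq_zero.1 h4
  · intro ht
    rw [ht, orderOf_one] at ht3
    omega

theorem t10_smul {L : Type*} [Group L] (a : MulAut L) (K : Subgroup L) (h : T10 K) : T10 (a • K : Subgroup L) :=
  h.congr (Subgroup.equivSMul a K)

set_option maxHeartbeats 1000000 in
/-- **`Spr (PΩ⁺₈(5))` from the overgroup theorem** -/
theorem spr5_of [IsSimpleGroup (T8 F)] (hF : Nat.card F = 5)
    (ho : ∀ {x t : GL I8 F} {J J' : Module.End F (I8 → F)} {c d : F} (_ : Wit x t 7) (_ : Two x t J J' c d)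
      {K : Subgroup (T8 F)} (_ : x ∈ pre (quadFormPlus 4 F) K) (_ : t ∈ pre (quadFormPlus 4 F) K) (_ : K ≠ ⊤),
      K ≤ U₁ x ∨ K ≤ U₂ J c ∨ K ≤ U₂ J' c ∨ T10 K) : Spr (T8 F) := by
  obtain ⟨x₀, t, J, J', κ, δ, w, f, hx₀, hord₀, cJ, cJ', hfx⟩ := exists_wit7 hF
  obtain ⟨x, hx9⟩ : ∃ x, x = x₀ ^ 9 := ⟨_, rfl⟩
  rw [← hx9] at w f hfx
  have hF' : Nat.card F = 5 ^ 1 := by rw [hF]; norm_num
  have w' : Wit x t (7 ^ 1) := w
  have ht3 : orderOf t = 3 := by
    rw [w.t_ord, H823.O8S.mt, hF]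
    norm_num
  have t3 : t ^ 3 = 1 := by rw [← ht3, pow_orderOf_eq_one]
  have hCf := cf_of hF w ht3
  have fJ := fj_of f.fJ f.cx f.ct
  have fJ' := fj_of f.fJ' f.cx' f.ct'
  obtain ⟨z, b⟩ := base_w hF' rw5 w'
  obtain ⟨i1, i2, i3⟩ := H264.O8S.u_inf_w hF' rw5 w' f
  obtain ⟨n1, n2, n3, n4⟩ := H264.O8S.u_not_le_w hF' rw5 w' f
  obtain ⟨n5, n6, -, n8⟩ := H264.O8S.u_not_le_w hF' rw5 w' f.symm
  obtain ⟨y₀, hy₀⟩ : ∃ y : Omega F (quadFormPlus 4 F), gl8 F y = x₀ := by
    obtain ⟨y, hy, hyx⟩ := hx₀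
    exact ⟨⟨y, hy⟩, hyx⟩
  obtain ⟨yx, hyxy⟩ : ∃ y : Omega F (quadFormPlus 4 F), y = y₀ ^ 9 := ⟨_, rfl⟩
  have hyx : gl8 F yx = x := by rw [hyxy, map_pow, hy₀, hx9]
  obtain ⟨yt, hyt⟩ : ∃ y : Omega F (quadFormPlus 4 F), gl8 F y = t := by
    obtain ⟨y, hy, hyt⟩ := w.t_mem
    exact ⟨⟨y, hy⟩, hyt⟩
  have hinj : Function.Injective (gl8 F) := (isometryGroup F (quadFormPlus 4 F)).subtype_injective.comp
    (Omega F (quadFormPlus 4 F)).subtype_injective
  -- `x` and `t` are powers of `s = x t`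
  have hcomm : Commute yx yt := by
    apply hinj
    rw [map_mul, map_mul, hyx, hyt, w.comm]
  have ox : orderOf yx = 7 := by rw [← orderOf_injective _ hinj, hyx, w.x_ord]
  have ot : orderOf yt = 3 := by rw [← orderOf_injective _ hinj, hyt, ht3]
  have hpw : ∀ {u v : Omega F (quadFormPlus 4 F)}, Commute u v → Nat.Coprime (orderOf u) (orderOf v) →
      u ∈ Subgroup.zpowers (u * v) := by
    intro u v hc hcop
    have h1 : (u * v) ^ orderOf v = u ^ orderOf v := by rw [hc.mul_pow, pow_orderOf_eq_one, mul_one]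
    have h2 : u ∈ Subgroup.zpowers (u ^ orderOf v) := mem_zpowers_pow_iff.2 hcop.symm
    rw [← h1] at h2
    exact (Subgroup.zpowers_le.2 (Subgroup.pow_mem _ (Subgroup.mem_zpowers _) _)) h2
  have hsx : yx ∈ Subgroup.zpowers (yx * yt) := hpw hcomm (by rw [ox, ot]; norm_num)
  have hst : yt ∈ Subgroup.zpowers (yx * yt) := by
    rw [hcomm.eq]
    exact hpw hcomm.symm (by rw [ox, ot]; norm_num)
  have hxK : ∀ {K : Subgroup (T8 F)}, mk8 F (yx * yt) ∈ K → mk8 F yx ∈ K ∧ mk8 F yt ∈ K := by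
    intro K hK
    constructor
    · obtain ⟨i, hi⟩ := Subgroup.mem_zpowers_iff.1 hsx
      rw [← hi, map_zpow]
      exact K.zpow_mem hK i
    · obtain ⟨i, hi⟩ := Subgroup.mem_zpowers_iff.1 hst
      rw [← hi, map_zpow]
      exact K.zpow_mem hK i
  have hov : ∀ K : Subgroup (T8 F), mk8 F (yx * yt) ∈ K → K ≠ ⊤ → K ≤ U₁ x ∨ K ≤ U₂ J κ ∨ K ≤ U₂ J' κ ∨ T10 K := by
    intro K hK hne
    obtain ⟨h1, h2⟩ := hxK hK
    refine ho w f ?_ ?_ hne
    · rw [← hyx]; exact pre_of_mem h1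
    · rw [← hyt]; exact pre_of_mem h2
  -- `s` lies in the three subgroups
  have m1 : mk8 F (yx * yt) ∈ U₁ x := by
    refine mk_mem_tp ?_
    change gl8 F (yx * yt) ∈ _
    rw [map_mul, hyx, hyt]
    refine Subgroup.mul_mem _ ?_ ?_
    · rw [mem_SW]
      apply le_antisymm
      · rintro _ ⟨v, hv, rfl⟩
        rw [H951.mem_fx.1 hv]; exact hv
      · intro v hv
        exact ⟨v, hv, H951.mem_fx.1 hv⟩
    · rw [mem_SW]
      exact hCf.t_W
  have m2 : ∀ {J J' : Module.End F (I8 → F)}, Two x t J J' κ δ → mk8 F (yx * yt) ∈ U₂ J κ := by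
    intro J J' f
    refine mk_mem_tp ?_
    change gl8 F (yx * yt) ∈ _
    rw [map_mul, hyx, hyt]
    refine Subgroup.mul_mem _ ?_ ?_
    · exact Or.inl fun v => (LinearMap.congr_fun f.cx v).symm
    · exact Or.inl fun v => (LinearMap.congr_fun f.ct v).symm
  -- the element of order 63 lies in the three subgroups
  have p1 : mk8 F y₀ ∈ U₁ x := by
    refine mk_mem_tp ?_
    change gl8 F y₀ ∈ _
    rw [hy₀, mem_SW, ← hfx]
    apply le_antisymm
    · rintro _ ⟨v, hv, rfl⟩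
      rw [H951.mem_fx.1 hv]; exact hv
    · intro v hv
      exact ⟨v, hv, H951.mem_fx.1 hv⟩
  have p2 : ∀ {J : Module.End F (I8 → F)}, (∀ v, J (lin x₀ v) = lin x₀ (J v)) → mk8 F y₀ ∈ U₂ J κ := by
    intro J hJ
    refine mk_mem_tp ?_
    change gl8 F y₀ ∈ _
    rw [hy₀]
    exact Or.inl fun v => (hJ v).symm
  have o0 : orderOf (mk8 F y₀) = 63 := by
    rw [order_mk, hy₀, hord₀]
    rw [hy₀, hfx]
    intro h0
    have h1 := b.dim2
    rw [h0, finrank_bot] at h1
    omega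
  have nT : ∀ K : Subgroup (T8 F), T10 K → mk8 F y₀ ∈ K → False := by
    intro K hT hK
    have e9 : orderOf ((⟨mk8 F y₀, hK⟩ : K) ^ 9) = 7 := by
      rw [orderOf_pow_of_dvd (by norm_num) (by rw [Subgroup.orderOf_mk, o0]; norm_num), Subgroup.orderOf_mk, o0]
    have h1 := hT.pow (y := (⟨mk8 F y₀, hK⟩ : K) ^ 7) e9 (by rw [← pow_add, ← pow_add])
    rw [← pow_mul] at h1
    have h2 := orderOf_dvd_of_pow_eq_one h1
    rw [Subgroup.orderOf_mk, o0] at h2
    norm_num at h2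
  have hco1 : IsCoatom (U₁ x) := by
    refine ⟨n3, fun K hK => ?_⟩
    by_contra hne
    rcases hov K (hK.le m1) hne with h1 | h1 | h1 | h1
    · exact absurd h1 hK.not_ge
    · exact n1 (hK.le.trans h1)
    · exact n5 (hK.le.trans h1)
    · exact nT K h1 (hK.le p1)
  have hco2 : ∀ {J J' : Module.End F (I8 → F)}, Two x t J J' κ δ → (∀ v, J (lin x₀ v) = lin x₀ (J v)) →
      ¬ U₂ J κ ≤ U₁ x → U₂ J κ ≠ ⊤ → U₂ J κ ⊓ U₂ J' κ ≤ U₁ x →
      (∀ K : Subgroup (T8 F), mk8 F (yx * yt) ∈ K → K ≠ ⊤ → K ≤ U₁ x ∨ K ≤ U₂ J κ ∨ K ≤ U₂ J' κ ∨ T10 K) →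
      IsCoatom (U₂ J κ) := by
    intro J J' f cJ n2 n4 i3 hov
    refine ⟨n4, fun K hK => ?_⟩
    by_contra hne
    rcases hov K (hK.le (m2 f)) hne with h1 | h1 | h1 | h1
    · exact n2 (hK.le.trans h1)
    · exact absurd h1 hK.not_ge
    · exact n2 ((le_inf le_rfl (hK.le.trans h1)).trans i3)
    · exact nT K h1 (hK.le (p2 cJ))
  have c2 := hco2 f cJ n2 n4 i3 hov
  have c3 := hco2 f.symm cJ' n6 n8 (by rw [inf_comm]; exact i3) fun K h1 h2 => by
    rcases hov K h1 h2 with h3 | h3 | h3 | h3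
    · exact Or.inl h3
    · exact Or.inr (Or.inr (Or.inl h3))
    · exact Or.inr (Or.inl h3)
    · exact Or.inr (Or.inr (Or.inr h3))
  -- not conjugate
  have e12 : ∀ y : T8 F, c y • U₁ x ≠ U₂ J κ := by
    intro y hy
    obtain ⟨h1, h2⟩ := hxK (m2 f)
    exact n2 (conj_U₁ hyx hyt b h1 h2 hy)
  have e13 : ∀ y : T8 F, c y • U₁ x ≠ U₂ J' κ := by
    intro y hy
    obtain ⟨h1, h2⟩ := hxK (m2 f.symm)
    exact n6 (conj_U₁ hyx hyt b h1 h2 hy)
  have e23 : ∀ y : T8 F, c y • U₂ J κ ≠ U₂ J' κ := by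
    intro y hy
    obtain ⟨h1, h2⟩ := hxK (m2 f.symm)
    rcases conj_U₂ hyx hyt b f h1 h2 hy with h3 | ⟨g, hg, h3⟩
    · exact n6 ((le_inf h3 le_rfl).trans i3)
    · exact H332.O8S.not_conj' w f hg h3
  have csymm : ∀ {A B : Subgroup (T8 F)}, (∀ y : T8 F, c y • A ≠ B) → ∀ y : T8 F, c y • B ≠ A := by
    intro A B hAB y hy
    apply hAB y⁻¹
    rw [← hy, H938.Spr.c_inv_smul]
  have hna : ∃ u v : T8 F, u * v ≠ v * u := by
    by_contra hcon
    push Not at hcon
    have hn : (U₁ x).Normal := ⟨fun n hn g => by rw [hcon g n, mul_inv_cancel_right]; exact hn⟩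
    rcases IsSimpleGroup.eq_bot_or_eq_top_of_normal (U₁ x) hn with h | h
    · exact n1 (h ▸ bot_le)
    · exact n3 h
  have nTp : ∀ i, ¬ T10 (![U₁ x, U₂ J κ, U₂ J' κ] i) := by
    intro i
    fin_cases i
    · exact fun h => nT _ h p1
    · exact fun h => nT _ h (p2 cJ)
    · exact fun h => nT _ h (p2 cJ')
  refine spr_of_three_tp hna (s := mk8 F (yx * yt)) ![U₁ x, U₂ J κ, U₂ J' κ] ?_ (fun K => T10 K)
    (fun a K h => t10_smul a K h) nTp ?_ ?_ ?_ ?_ ?_
  · intro i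
    fin_cases i
    · exact hco1
    · exact c2
    · exact c3
  · intro K hK hne
    rcases hov K hK hne with h1 | h1 | h1 | h1
    · exact Or.inl ⟨0, h1⟩
    · exact Or.inl ⟨1, h1⟩
    · exact Or.inl ⟨2, h1⟩
    · exact Or.inr h1
  · intro i j k hij
    fin_cases i <;> fin_cases j <;> fin_cases k <;>
      first
      | exact absurd rfl hij
      | exact inf_le_left
      | exact inf_le_right
      | exact i1
      | exact i2
      | exact i3
      | (rw [inf_comm]; exact i1)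
      | (rw [inf_comm]; exact i2)
      | (rw [inf_comm]; exact i3)
  · intro i j hij
    fin_cases i <;> fin_cases j
    · exact absurd rfl hij
    · exact e12
    · exact e13
    · exact csymm e12
    · exact absurd rfl hij
    · exact e23
    · exact csymm e13
    · exact csymm e23
    · exact absurd rfl hij
  · intro a K hT hs haK
    obtain ⟨h1, h2⟩ := hxK hs
    exact conj_of_TF (Q := LieClassical.OrthForms.plusForm 4 F) (f₀ := quadFormPlus 4 F) rfl hCf hF t3 fJ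
      (fun _ => Iff.rfl) a (x' := yx) (t' := yt) hyx hyt hT h1 h2 haK
  · intro a ha hne
    obtain ⟨y, hy, g2, g3, g4⟩ := midF (Q := LieClassical.OrthForms.plusForm 4 F) (f₀ := quadFormPlus 4 F) rfl hCf hF t3
      fJ fJ' (H₁ := SW (fx (lin x))) (H₂ := NJ J κ) (H₃ := NJ J' κ) (fun _ => Iff.rfl) (fun _ => Iff.rfl)
      (fun _ => Iff.rfl) a (x' := yx) (t' := yt) hyx hyt ha hne
    refine ⟨y, hy, ?_, ?_⟩
    · intro i hi
      fin_cases i
      · exact absurd rfl hi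
      · exact g2
      · exact g3
    · intro K hT hs
      have hs' : mk8 F (yx * yt) ∈ c y⁻¹ • K := c_inv_mem hs
      obtain ⟨h1, h2⟩ := hxK hs'
      have back : ∀ {k : T8 F}, k ∈ c y⁻¹ • K → c y k ∈ K := by
        intro k hk
        have h3 := mem_smul (c y) hk
        rwa [H938.Spr.c_smul_inv] at h3
      exact g4 K hT (back h1) (back h2)

end Cfsg.Agent.H9.O5
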