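import Cfsg.Agent.H9.O5.Tri

/-!
# S3938, `PΩ⁺₈(5)`: rotations of order three of anisotropic planes (helper9)
-/

set_option autoImplicit false
set_option linter.unusedSectionVars false

namespace Cfsg.Agent.H9.O5

open Module QuadraticMap

variable {F V : Type*} [Field F] [AddCommGroup V] [Module F V] {Q : QuadraticForm F V}

/-- a rotation of order three of the plane `P` -/
structure Rot3 (Q : QuadraticForm F V) (A : V ≃ₗ[F] V) (P : Submodule F V) : Prop where
  card : Nat.card F = 5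
  iso : ∀ v, Q (A v) = Q v
  cube : ∀ v, A (A (A v)) = v
  mem : ∀ v, A v - v ∈ P
  dim : finrank F P = 2
  sum : ∀ u ∈ P, u + A u + A (A u) = 0
  fix : ∀ v, (∀ u ∈ P, polar Q u v = 0) → A v = v

/-- scalars -/
def Sc (S : V ≃ₗ[F] V) : Prop := ∃ e : F, ∀ v, S v = e • v

theorem three_ne (h : Nat.card F = 5) : (3 : F) ≠ 0 := by
  obtain ⟨e⟩ := exists_e h
  intro h2
  have h3 := congrArg e h2
  rw [map_zero, map_ofNat] at h3
  exact absurd h3 (by decide)

theorem no_root (h : Nat.card F = 5) (l : F) : 1 + l + l * l ≠ 0 := by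
  obtain ⟨e⟩ := exists_e h
  intro h2
  have h3 := congrArg e h2
  rw [map_zero, map_add, map_add, map_mul, map_one] at h3
  exact absurd h3 ((by decide : ∀ l : ZMod 5, 1 + l + l * l ≠ 0) (e l))

theorem cube_one (h : Nat.card F = 5) {l : F} (hl : l * l * l = 1) : l = 1 := by
  have h1 : (l - 1) * (1 + l + l * l) = 0 := by linear_combination hl
  exact sub_eq_zero.1 ((mul_eq_zero.1 h1).resolve_right (no_root h l))

section

variable {A : V ≃ₗ[F] V} {P : Submodule F V} (a : Rot3 Q A P)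
include a

theorem Rot3.pi (v w : V) : polar Q (A v) (A w) = polar Q v w := by
  simp only [polar, ← map_add, a.iso]

theorem Rot3.inv (v : V) (hv : v ∈ P) : A v ∈ P := by
  have := P.add_mem (a.mem v) hv
  rwa [sub_add_cancel] at this

/-- vectors fixed by `A` are orthogonal to `P` -/
theorem Rot3.perp {v : V} (hv : A v = v) {u : V} (hu : u ∈ P) : polar Q u v = 0 := by
  have h1 : polar Q (A u) v = polar Q u v := by
    have := a.pi u v
    rwa [hv] at this
  have h2 : polar Q (A (A u)) v = polar Q (A u) v := by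
    have := a.pi (A u) v
    rwa [hv] at this
  have h3 := congrArg (fun z => polar Q z v) (a.sum u hu)
  simp only [polar_add_left, polar_zero_left] at h3
  rw [h2, h1] at h3
  have h4 : (3 : F) * polar Q u v = 0 := by linear_combination h3
  exact (mul_eq_zero.1 h4).resolve_left (three_ne a.card)

theorem Rot3.no_eig {u : V} (hu : u ∈ P) (h0 : u ≠ 0) (l : F) : A u ≠ l • u := by
  intro h1
  have h2 := a.sum u hu
  rw [h1, map_smul, h1, smul_smul] at h2
  have h3 : (1 + l + l * l) • u = 0 := by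
    rw [add_smul, add_smul, one_smul]
    exact h2
  exact (smul_eq_zero.1 h3).elim (no_root a.card l) h0

theorem Rot3.li {u : V} (hu : u ∈ P) (h0 : u ≠ 0) : LinearIndependent F ![u, A u] := by
  rw [LinearIndependent.pair_iff' h0]
  exact fun l hl => a.no_eig hu h0 l hl.symm

/-- `P` is spanned by two independent vectors -/
theorem Rot3.span {u v : V} (hu : u ∈ P) (hv : v ∈ P) (h : LinearIndependent F ![u, v]) {w : V} (hw : w ∈ P) :
    ∃ x y : F, w = x • u + y • v := by
  have hfin : FiniteDimensional F P := Module.finite_of_finrank_pos (by rw [a.dim]; norm_num)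
  have h1 : Submodule.span F (Set.range ![u, v]) = P := by
    apply Submodule.eq_of_le_of_finrank_le
    · rw [Submodule.span_le]
      rintro _ ⟨i, rfl⟩
      fin_cases i
      · exact hu
      · exact hv
    · rw [a.dim, finrank_span_eq_card h, Fintype.card_fin]
  rw [← h1, Matrix.range_cons, Matrix.range_cons, Matrix.range_empty, Set.union_empty, Set.singleton_union,
    Submodule.mem_span_pair] at hw
  obtain ⟨x, y, e⟩ := hw
  exact ⟨x, y, e.symm⟩

/-- `B(u, A u) = 2 B(u, u)` -/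
theorem Rot3.two {u : V} (hu : u ∈ P) : polar Q u (A u) = 2 * polar Q u u := by
  have h1 := congrArg (fun z => polar Q (A u) z) (a.sum u hu)
  simp only [polar_add_right, polar_zero_right] at h1
  rw [a.pi, a.pi, polar_comm Q (A u) u] at h1
  have h2 : (2 : F) * (polar Q u (A u) - 2 * polar Q u u) = 0 := by
    linear_combination h1 - polar Q u u * five_zero a.card
  exact sub_eq_zero.1 ((mul_eq_zero.1 h2).resolve_left (two_ne a.card))

theorem Rot3.aniso {u : V} (hu : u ∈ P) (h : polar Q u u = 0) : u = 0 := by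
  by_contra h0
  apply a.no_eig hu h0 1
  rw [one_smul]
  apply a.fix
  intro w hw
  obtain ⟨x, y, rfl⟩ := a.span hu (a.inv u hu) (a.li hu h0) hw
  rw [polar_add_left, polar_smul_left, polar_smul_left, h, polar_comm Q (A u) u, a.two hu, h]
  simp

/-- a linear map which commutes with `A` preserves `P` -/
theorem Rot3.comm {J : Module.End F V} (hJ : ∀ v, J (A v) = A (J v)) {u : V} (hu : u ∈ P) : J u ∈ P := by
  have h1 : (3 : F) • u = -((A u - u) + (A (A u) - A u) + (A u - u)) := by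
    have h2 := a.sum u hu
    have h3 : A (A u) = -u - A u := by
      rw [← sub_eq_zero]
      rw [← h2]
      abel
    rw [h3]
    module
  have h2 : (3 : F) • J u ∈ P := by
    rw [← map_smul, h1, map_neg, map_add, map_add, map_sub, map_sub, hJ, hJ, hJ]
    exact P.neg_mem (P.add_mem (P.add_mem (a.mem _) (a.mem _)) (a.mem _))
  have h3 : J u = (3 : F)⁻¹ • (3 : F) • J u := by rw [smul_smul, inv_mul_cancel₀ (three_ne a.card), one_smul]
  rw [h3]
  exact P.smul_mem _ h2

/-- the inverse -/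
theorem Rot3.symm : Rot3 Q A⁻¹ P := by
  have e : ∀ v, A⁻¹ v = A (A v) := by
    intro v
    have h1 : A⁻¹ (A (A (A v))) = A (A v) := A.symm_apply_apply _
    rwa [a.cube] at h1
  refine ⟨a.card, fun v => ?_, fun v => ?_, fun v => ?_, a.dim, fun u hu => ?_, fun v hv => ?_⟩
  · rw [e, a.iso, a.iso]
  · rw [e, e, e, a.cube, a.cube]
  · rw [e]
    have := P.add_mem (a.mem (A v)) (a.mem v)
    rwa [sub_add_sub_cancel] at this
  · rw [e, e, a.cube]
    have := a.sum u hu
    rw [← this]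
    abel
  · rw [e, a.fix v hv, a.fix v hv]

/-- conjugates -/
theorem Rot3.conj {Y : V ≃ₗ[F] V} (hY : ∀ v, Q (Y v) = Q v) : Rot3 Q (Y * A * Y⁻¹) (P.map (Y : V →ₗ[F] V)) := by
  have e : ∀ v, (Y * A * Y⁻¹) v = Y (A (Y.symm v)) := fun v => rfl
  have hp : ∀ v w, polar Q (Y v) (Y w) = polar Q v w := fun v w => by simp only [polar, ← map_add, hY]
  have hY' : ∀ v, Q (Y.symm v) = Q v := fun v => by
    have := hY (Y.symm v)
    rw [Y.apply_symm_apply] at this
    exact this.symm
  refine ⟨a.card, fun v => ?_, fun v => ?_, fun v => ?_, ?_, fun u hu => ?_, fun v hv => ?_⟩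
  · rw [e, hY, a.iso, hY']
  · simp only [e, Y.symm_apply_apply, a.cube, Y.apply_symm_apply]
  · refine ⟨_, a.mem (Y.symm v), ?_⟩
    rw [e, map_sub]
    change Y (A (Y.symm v)) - Y (Y.symm v) = _
    rw [Y.apply_symm_apply]
  · rw [LinearEquiv.finrank_map_eq]
    exact a.dim
  · obtain ⟨u', hu', rfl⟩ := hu
    change Y u' + (Y * A * Y⁻¹) (Y u') + (Y * A * Y⁻¹) ((Y * A * Y⁻¹) (Y u')) = 0
    simp only [e, Y.symm_apply_apply]
    rw [← map_add, ← map_add, a.sum u' hu', map_zero]
  · rw [e, a.fix (Y.symm v), Y.apply_symm_apply]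
    intro u hu
    rw [← hp, Y.apply_symm_apply]
    exact hv _ ⟨u, hu, rfl⟩

end

section pair

variable {A B : V ≃ₗ[F] V} {P P' : Submodule F V} (a : Rot3 Q A P) (b : Rot3 Q B P')
  (n1 : ∀ v ∈ P, v ∈ P' → v = 0)
  (n2 : ∀ v ∈ P, ∀ v' ∈ P', (∀ u ∈ P, polar Q u (v + v') = 0) → (∀ u ∈ P', polar Q u (v + v') = 0) → v + v' = 0)
include a b n1 n2

/-- no fixed vectors -/
theorem pair_fix {n v v' : V} (hv : v ∈ P) (hv' : v' ∈ P') (hn : n = v + v') (h : A (B n) = n) : n = 0 := by
  have h1 : B n - n ∈ P' := b.mem n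
  have h2 : B n - n ∈ P := by
    have h3 := a.mem (B n)
    rw [h] at h3
    have := P.neg_mem h3
    rwa [neg_sub] at this
  have h3 : B n = n := sub_eq_zero.1 (n1 _ h2 h1)
  have h4 : A n = n := by
    conv_lhs => rw [← h3]
    exact h
  rw [hn]
  apply n2 v hv v' hv'
  · intro u hu
    rw [← hn]
    exact a.perp h4 hu
  · intro u hu
    rw [← hn]
    exact b.perp h3 hu

theorem pair_step {n : V} (hn : ∃ v ∈ P, ∃ v' ∈ P', n = v + v') : ∃ v ∈ P, ∃ v' ∈ P', A (B n) = v + v' := by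
  obtain ⟨v, hv, v', hv', rfl⟩ := hn
  refine ⟨v + (A (B (v + v')) - B (v + v')), P.add_mem hv (a.mem _), v' + (B (v + v') - (v + v')),
    P'.add_mem hv' (b.mem _), ?_⟩
  abel

/-- not an involution -/
theorem pair_sq (h0 : ∃ v ∈ P', v ≠ 0) : ¬ ∀ v, A (B (A (B v))) = v := by
  intro h
  obtain ⟨n, hn, hn0⟩ := h0
  obtain ⟨v, hv, v', hv', e⟩ := pair_step a b n1 n2 ⟨0, P.zero_mem, n, hn, (zero_add n).symm⟩
  have h1 : n + A (B n) = 0 := by
    apply pair_fix a b n1 n2 hv (P'.add_mem hn hv') (n := n + A (B n))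
    · rw [e]; abel
    · rw [map_add, map_add, h, add_comm]
  have h2 : A (B n) = -n := (neg_eq_of_add_eq_zero_right h1).symm
  have h3 : n + B n ∈ P := by
    have h4 := a.mem (B n)
    rw [h2] at h4
    have := P.neg_mem h4
    rwa [neg_sub, sub_neg_eq_add, add_comm] at this
  have h4 : n + B n ∈ P' := P'.add_mem hn (b.inv n hn)
  have h5 := n1 _ h3 h4
  have h6 : B n = (-1 : F) • n := by
    rw [neg_one_smul]
    exact (neg_eq_of_add_eq_zero_right h5).symm
  exact b.no_eig hn hn0 _ h6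

/-- not of order five -/
theorem pair_five (h0 : ∃ v ∈ P', v ≠ 0) : ¬ ∀ v, A (B (A (B (A (B (A (B (A (B v))))))))) = v := by
  intro h
  obtain ⟨n, hn, hn0⟩ := h0
  have key : ∀ m : V, (∃ v ∈ P, ∃ v' ∈ P', m = v + v') → (∃ v ∈ P, ∃ v' ∈ P', A (B m) - m = v + v') ∧
      (A (B m) - m = 0 → m = 0) := by
    intro m hm
    refine ⟨?_, ?_⟩
    · obtain ⟨v, hv, v', hv', e⟩ := pair_step a b n1 n2 hm
      obtain ⟨z, hz, z', hz', e'⟩ := hm
      refine ⟨v - z, P.sub_mem hv hz, v' - z', P'.sub_mem hv' hz', ?_⟩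
      rw [e, e']
      abel
    · intro h1
      obtain ⟨z, hz, z', hz', e'⟩ := hm
      exact pair_fix a b n1 n2 hz hz' e' (sub_eq_zero.1 h1)
  have k0 : ∃ v ∈ P, ∃ v' ∈ P', n = v + v' := ⟨0, P.zero_mem, n, hn, (zero_add n).symm⟩
  obtain ⟨k1, i1⟩ := key _ k0
  obtain ⟨k2, i2⟩ := key _ k1
  obtain ⟨k3, i3⟩ := key _ k2
  obtain ⟨k4, i4⟩ := key _ k3
  obtain ⟨-, i5⟩ := key _ k4
  apply hn0
  apply i1
  apply i2
  apply i3
  apply i4
  apply i5
  simp only [map_sub]
  have h5 := five_zero a.card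
  rw [h n]
  have e : ∀ z : V, z + z + z + z + z = 0 := by
    intro z
    have : z + z + z + z + z = (5 : F) • z := by module
    rw [this, h5, zero_smul]
  have e1 := e (A (B n))
  have e2 := e (A (B (A (B n))))
  have e3 := e (A (B (A (B (A (B n))))))
  have e4 := e (A (B (A (B (A (B (A (B n))))))))
  generalize A (B n) = z1 at *
  generalize A (B z1) = z2 at *
  generalize A (B z2) = z3 at *
  generalize A (B z3) = z4 at *
  have : n - z4 - (z4 - z3) - (z4 - z3 - (z3 - z2)) - (z4 - z3 - (z3 - z2) - (z3 - z2 - (z2 - z1))) -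
      (z4 - z3 - (z3 - z2) - (z3 - z2 - (z2 - z1)) - (z3 - z2 - (z2 - z1) - (z2 - z1 - (z1 - n)))) =
      -(z4 + z4 + z4 + z4 + z4) + (z3 + z3 + z3 + z3 + z3) + (z3 + z3 + z3 + z3 + z3) - (z2 + z2 + z2 + z2 + z2) -
      (z2 + z2 + z2 + z2 + z2) + (z1 + z1 + z1 + z1 + z1) := by abel
  rw [this, e1, e2, e3, e4]
  simp

/-- not commuting -/
theorem pair_comm (n3 : ∃ v ∈ P, ∃ v' ∈ P', polar Q v v' ≠ 0) : ¬ ∀ v, A (B v) = B (A v) := by
  intro h
  obtain ⟨v, hv, v', hv', h1⟩ := n3
  apply h1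
  apply a.perp _ hv
  have h2 : A v' ∈ P' := b.comm (J := (A : V →ₗ[F] V)) h hv'
  exact sub_eq_zero.1 (n1 _ (a.mem v') (P'.sub_mem h2 hv'))

end pair

end Cfsg.Agent.H9.O5
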