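import Cfsg.Agent.H9.O5.CaseB

/-!
# S3938, `PΩ⁺₈(5)`: the rotations of order three of a plane (helper9)
-/

set_option autoImplicit false
set_option linter.unusedSectionVars false

namespace Cfsg.Agent.H9.O5

open Module QuadraticMap

variable {F V : Type*} [Field F] [AddCommGroup V] [Module F V] {Q : QuadraticForm F V}

theorem Rot3.three_smul {A : V ≃ₗ[F] V} {P : Submodule F V} (a : Rot3 Q A P) {u : V} (hu : u ∈ P) :
    (3 : F) • u = -((A u - u) + (A (A u) - A u) + (A u - u)) := by
  have h2 := a.sum u hu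
  have h3 : A (A u) = -u - A u := by
    rw [← sub_eq_zero]
    rw [← h2]
    abel
  rw [h3]
  module

/-- the plane is determined by the rotation -/
theorem Rot3.le_of {A : V ≃ₗ[F] V} {P P' : Submodule F V} (a : Rot3 Q A P) (a' : Rot3 Q A P') : P ≤ P' := by
  intro u hu
  have h1 : (3 : F) • u ∈ P' := by
    rw [a.three_smul hu]
    exact P'.neg_mem (P'.add_mem (P'.add_mem (a'.mem _) (a'.mem _)) (a'.mem _))
  have h2 : u = (3 : F)⁻¹ • (3 : F) • u := by rw [smul_smul, inv_mul_cancel₀ (three_ne a.card), one_smul]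
  rw [h2]
  exact P'.smul_mem _ h1

theorem Rot3.plane_eq {A : V ≃ₗ[F] V} {P P' : Submodule F V} (a : Rot3 Q A P) (a' : Rot3 Q A P') : P = P' :=
  le_antisymm (a.le_of a') (a'.le_of a)

variable {X : V ≃ₗ[F] V} {W U : Submodule F V}

section

variable (h : Dt Q X W U)
include h

theorem Dt.dec (v : V) : ∃ w ∈ W, ∃ u ∈ U, v = w + u := by
  have h1 : v ∈ W ⊔ U := by rw [h.compl.sup_eq_top]; trivial
  obtain ⟨w, hw, u, hu, e⟩ := Submodule.mem_sup.1 h1
  exact ⟨w, hw, u, hu, e.symm⟩

theorem Dt.self_ne {w : V} (hw : w ∈ W) (h0 : w ≠ 0) : polar Q w w ≠ 0 := by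
  intro h1
  rw [polar_self, nsmul_eq_mul, Nat.cast_ofNat] at h1
  exact h0 (h.aniso w hw ((mul_eq_zero.1 h1).resolve_left (two_ne h.card)))

/-- isometries trivial on `U` preserve `W` -/
theorem Dt.preW {T : V ≃ₗ[F] V} (iso : ∀ v, Q (T v) = Q v) (hU : ∀ u ∈ U, T u = u) {w : V} (hw : w ∈ W) : T w ∈ W := by
  obtain ⟨w', hw', u', hu', e⟩ := h.dec (T w)
  have hp : ∀ v w, polar Q (T v) (T w) = polar Q v w := fun v w => by simp only [polar, ← map_add, iso]
  have h1 : u' = 0 := by
    have key : ∀ v, polarBilin Q u' v = 0 := by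
      intro v
      obtain ⟨w₁, hw₁, u₁, hu₁, rfl⟩ := h.dec v
      change polar Q u' (w₁ + u₁) = 0
      rw [polar_add_right, polar_comm Q u' w₁, h.perp w₁ hw₁ u' hu', zero_add]
      have h2 : polar Q (T w) u₁ = 0 := by
        rw [← hU u₁ hu₁, hp, h.perp w hw u₁ hu₁]
      rw [e, polar_add_left, h.perp w' hw' u₁ hu₁, zero_add] at h2
      exact h2
    exact h.nd.1 u' key
  rw [e, h1, add_zero]
  exact hw'

theorem Dt.rot {T : V ≃ₗ[F] V} (iso : ∀ v, Q (T v) = Q v) (cube : ∀ v, T (T (T v)) = v) (hU : ∀ u ∈ U, T u = u)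
    (hne : ∃ v, T v ≠ v) : Rot3 Q T W := by
  have hp : ∀ v w, polar Q (T v) (T w) = polar Q v w := fun v w => by simp only [polar, ← map_add, iso]
  have hW : ∀ w ∈ W, T w ∈ W := fun w hw => h.preW iso hU hw
  have hfin : FiniteDimensional F W := Module.finite_of_finrank_pos (by rw [h.dimW]; norm_num)
  refine ⟨h.card, iso, cube, fun v => ?_, h.dimW, fun w hw => ?_, fun v hv => ?_⟩
  · obtain ⟨w, hw, u, hu, rfl⟩ := h.dec v
    rw [map_add, hU u hu, add_sub_add_right_eq_sub]
    exact W.sub_mem (hW w hw) hw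
  · by_contra hs
    obtain ⟨s, hs'⟩ : ∃ s, s = w + T w + T (T w) := ⟨_, rfl⟩
    rw [← hs'] at hs
    have sW : s ∈ W := by
      rw [hs']
      exact W.add_mem (W.add_mem hw (hW _ hw)) (hW _ (hW _ hw))
    have sT : T s = s := by
      rw [hs', map_add, map_add, cube]
      abel
    have hB := h.self_ne sW hs
    obtain ⟨v₀, hv₀⟩ := hne
    apply hv₀
    have key : ∀ v ∈ W, T v = v := by
      intro v hv
      obtain ⟨v', hv'⟩ : ∃ v', v' = v - (polar Q s v / polar Q s s) • s := ⟨_, rfl⟩
      have v'W : v' ∈ W := by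
        rw [hv']
        exact W.sub_mem hv (W.smul_mem _ sW)
      have o1 : polar Q s v' = 0 := by
        rw [hv', polar_sub_right, polar_smul_right, smul_eq_mul, div_mul_cancel₀ _ hB, sub_self]
      have h1 : T v' = v' := by
        by_cases h0 : v' = 0
        · rw [h0, map_zero]
        · have hli : LinearIndependent F ![s, v'] := by
            rw [LinearIndependent.pair_iff' hs]
            intro l hl
            rw [← hl, polar_smul_right, smul_eq_mul] at o1
            have h2 := (mul_eq_zero.1 o1).resolve_right hB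
            rw [h2, zero_smul] at hl
            exact h0 hl.symm
          have h1 : Submodule.span F (Set.range ![s, v']) = W := by
            apply Submodule.eq_of_le_of_finrank_le
            · rw [Submodule.span_le]
              rintro _ ⟨i, rfl⟩
              fin_cases i
              · exact sW
              · exact v'W
            · rw [h.dimW, finrank_span_eq_card hli, Fintype.card_fin]
          have h2 := hW v' v'W
          rw [← h1, Matrix.range_cons, Matrix.range_cons, Matrix.range_empty, Set.union_empty, Set.singleton_union,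
            Submodule.mem_span_pair] at h2
          obtain ⟨x, y, e⟩ := h2
          have h3 : polar Q s (T v') = 0 := by
            rw [← o1]
            conv_lhs => rw [← sT]
            rw [hp]
          rw [← e, polar_add_right, polar_smul_right, polar_smul_right, o1, smul_zero, add_zero, smul_eq_mul] at h3
          have hx := (mul_eq_zero.1 h3).resolve_right hB
          rw [hx, zero_smul, zero_add] at e
          have h4 := cube v'
          rw [← e, map_smul, ← e, map_smul, map_smul, ← e, smul_smul, smul_smul] at h4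
          have h5 : (y * y * y - 1) • v' = 0 := by
            rw [sub_smul, one_smul, h4, sub_self]
          have h6 := cube_one h.card (sub_eq_zero.1 ((smul_eq_zero.1 h5).resolve_right h0))
          rw [← e, h6, one_smul]
      have h2 : v = v' + (polar Q s v / polar Q s s) • s := by rw [hv']; abel
      rw [h2, map_add, map_smul, h1, sT]
    obtain ⟨w₁, hw₁, u₁, hu₁, rfl⟩ := h.dec v₀
    rw [map_add, hU u₁ hu₁, key w₁ hw₁]
  · obtain ⟨w₁, hw₁, u₁, hu₁, rfl⟩ := h.dec v
    have h1 : w₁ = 0 := by
      by_contra h0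
      apply h.self_ne hw₁ h0
      have := hv w₁ hw₁
      rwa [polar_add_right, h.perp w₁ hw₁ u₁ hu₁, add_zero] at this
    rw [h1, zero_add, hU u₁ hu₁]

/-- **the rotations of order three of a plane** -/
theorem Dt.rot_cases {A B : V ≃ₗ[F] V} (a : Rot3 Q A W) (b : Rot3 Q B W) : B = A ∨ B = A⁻¹ := by
  have hU : ∀ {A : V ≃ₗ[F] V}, Rot3 Q A W → ∀ u ∈ U, A u = u := fun a u hu => a.fix u fun w hw => h.perp w hw u hu
  have hP : W ≠ ⊥ := by
    intro h1
    have := h.dimW
    rw [h1, finrank_bot] at this
    omega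
  obtain ⟨u, hu, h0⟩ := (Submodule.ne_bot_iff _).1 hP
  have hD := h.self_ne hu h0
  obtain ⟨x, y, e⟩ := a.span hu (a.inv u hu) (a.li hu h0) (b.inv u hu)
  have h5 := five_zero h.card
  have e1 : x + 2 * y = 2 := by
    have h1 := b.two hu
    rw [e, polar_add_right, polar_smul_right, polar_smul_right, a.two hu, smul_eq_mul, smul_eq_mul] at h1
    have h2 : (x + 2 * y - 2) * polar Q u u = 0 := by linear_combination h1
    exact sub_eq_zero.1 ((mul_eq_zero.1 h2).resolve_right hD)
  have e2 : x * x + 4 * x * y + y * y = 1 := by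
    have h1 := b.pi u u
    rw [e] at h1
    simp only [polar_add_left, polar_add_right, polar_smul_left, polar_smul_right, smul_eq_mul, a.pi,
      polar_comm Q (A u) u, a.two hu] at h1
    have h2 : (x * x + 4 * x * y + y * y - 1) * polar Q u u = 0 := by linear_combination h1
    exact sub_eq_zero.1 ((mul_eq_zero.1 h2).resolve_right hD)
  have e3 : (y - 1) * (y + 1) = 0 := by
    have hx : x = 2 - 2 * y := by linear_combination e1
    rw [hx] at e2
    have h1 : (3 : F) * ((y - 1) * (y + 1)) = 0 := by linear_combination -e2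
    exact (mul_eq_zero.1 h1).resolve_left (three_ne h.card)
  -- agreement on `u` implies agreement
  have agree : ∀ {A B : V ≃ₗ[F] V}, Rot3 Q A W → Rot3 Q B W → B u = A u → B = A := by
    intro A B a b hab
    have h1 : B (A u) = A (A u) := by
      have h2 := a.sum u hu
      have h3 := b.sum u hu
      rw [hab] at h3
      have h4 : A (A u) = -(u + A u) := (neg_eq_of_add_eq_zero_right h2).symm
      have h5 : B (A u) = -(u + A u) := (neg_eq_of_add_eq_zero_right h3).symm
      rw [h4, h5]
    apply LinearEquiv.ext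
    intro v
    obtain ⟨w, hw, u', hu', rfl⟩ := h.dec v
    obtain ⟨x, y, rfl⟩ := a.span hu (a.inv u hu) (a.li hu h0) hw
    simp only [map_add, map_smul, hab, h1, hU a u' hu', hU b u' hu']
  rcases mul_eq_zero.1 e3 with h1 | h1
  · left
    have hy : y = 1 := sub_eq_zero.1 h1
    have hx : x = 0 := by rw [hy] at e1; linear_combination e1
    rw [hx, hy, zero_smul, zero_add, one_smul] at e
    exact agree a b e
  · right
    have hy : y = -1 := eq_neg_of_add_eq_zero_left h1
    have hx : x = -1 := by rw [hy] at e1; linear_combination e1 + h5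
    apply agree a.symm b
    have h2 : A⁻¹ u = A (A u) := by
      have h3 : A⁻¹ (A (A (A u))) = A (A u) := A.symm_apply_apply _
      rwa [a.cube] at h3
    have h3 : A (A u) = -(u + A u) := (neg_eq_of_add_eq_zero_right (a.sum u hu)).symm
    rw [h2, h3, e, hx, hy]
    module

/-- an isometry trivial on `U` commutes with `X` -/
theorem Dt.commX {T : V ≃ₗ[F] V} (iso : ∀ v, Q (T v) = Q v) (hU : ∀ u ∈ U, T u = u) : T * X = X * T := by
  apply LinearEquiv.ext
  intro v
  obtain ⟨w, hw, u, hu, rfl⟩ := h.dec v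
  rw [LinearEquiv.mul_apply, LinearEquiv.mul_apply, map_add, map_add, map_add, map_add, h.XW w hw, hU u hu,
    hU _ (h.XU u hu), h.XW _ (h.preW iso hU hw)]

/-- an isometry trivial on `W` commutes with the rotations of `W` -/
theorem Dt.commT [FiniteDimensional F V] {R T : V ≃ₗ[F] V} (hR : ∀ v, Q (R v) = Q v) (hW : ∀ w ∈ W, R w = w)
    (t : Rot3 Q T W) : R * T = T * R := by
  have hU : ∀ u ∈ U, T u = u := fun u hu => t.fix u fun w hw => h.perp w hw u hu
  apply LinearEquiv.ext
  intro v
  obtain ⟨w, hw, u, hu, rfl⟩ := h.dec v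
  rw [LinearEquiv.mul_apply, LinearEquiv.mul_apply, map_add, map_add, map_add, map_add, hU u hu, hW w hw,
    hW _ (t.inv w hw), hU _ (h.RU hR hW hu)]

/-- conjugation with an isometry trivial on `U` -/
theorem Dt.conjT [FiniteDimensional F V] {S T : V ≃ₗ[F] V} (iso : ∀ v, Q (S v) = Q v) (hU : ∀ u ∈ U, S u = u)
    (t : Rot3 Q T W) : S * T * S⁻¹ = T ∨ S * T * S⁻¹ = T⁻¹ := by
  have h1 : W.map (S : V →ₗ[F] V) = W := by
    apply Submodule.eq_of_le_of_finrank_eq
    · rintro _ ⟨w, hw, rfl⟩
      exact h.preW iso hU hw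
    · exact LinearEquiv.finrank_map_eq _ _
  have h2 := t.conj iso
  rw [h1] at h2
  exact h.rot_cases t h2

end

end Cfsg.Agent.H9.O5
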